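import Mathlib

/-!
# Arithmetic for the exclusion of Sylow 2-subgroups of type U₃(4) (S3214)
-/

set_option autoImplicit false

namespace CfsgLib.InvCent.UnitarySylow

/-- The descent: the binary form has no nonzero zero. -/
theorem descent {a b : ℤ} (ha : (a : ZMod 4) = 1) (hb : (b : ZMod 4) = 1) :
    ∀ P Q : ℤ, b * P ^ 2 + a * Q ^ 2 + (a * Q - b * P) ^ 2 = 0 → P = 0 ∧ Q = 0 := by
  suffices h : ∀ n : ℕ, ∀ P Q : ℤ, P.natAbs + Q.natAbs = n →
      b * P ^ 2 + a * Q ^ 2 + (a * Q - b * P) ^ 2 = 0 → P = 0 ∧ Q = 0 from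
    fun P Q => h _ P Q rfl
  intro n
  induction n using Nat.strong_induction_on with
  | _ n ih =>
    intro P Q hn he
    by_contra hne
    have h4 : (P : ZMod 4) ^ 2 + (Q : ZMod 4) ^ 2 + ((Q : ZMod 4) - P) ^ 2 = 0 := by
      have := congrArg (fun t : ℤ => (t : ZMod 4)) he
      simpa [ha, hb] using this
    have key : ∀ p q : ZMod 4, p ^ 2 + q ^ 2 + (q - p) ^ 2 = 0 → 2 * p = 0 ∧ 2 * q = 0 := by decide
    obtain ⟨hp, hq⟩ := key _ _ h4
    have hp' : ((2 * P : ℤ) : ZMod 4) = 0 := by push_cast; exact hp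
    have hq' : ((2 * Q : ℤ) : ZMod 4) = 0 := by push_cast; exact hq
    rw [ZMod.intCast_zmod_eq_zero_iff_dvd] at hp' hq'
    obtain ⟨P', rfl⟩ : 2 ∣ P := by omega
    obtain ⟨Q', rfl⟩ : 2 ∣ Q := by omega
    have h0 : 0 < P'.natAbs + Q'.natAbs := by
      by_contra hh
      exact hne ⟨by omega, by omega⟩
    obtain ⟨rfl, rfl⟩ := ih (P'.natAbs + Q'.natAbs) (by omega) P' Q' rfl (by linarith)
    simp at hne

/-- The equation of the class multiplication. -/
theorem eq_of_relation {a b x y : ℤ} (ha : (a : ZMod 4) = 1) (hb : (b : ZMod 4) = 1)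
    (hf : 1 + a + b ≠ 0)
    (h : (1 : ℚ) + (x : ℚ) ^ 2 / a + (y : ℚ) ^ 2 / b -
      (1 + x + y : ℚ) ^ 2 / (1 + a + b) = 0) : x = a ∧ y = b := by
  have ha0 : a ≠ 0 := by rintro rfl; revert ha; decide
  have hb0 : b ≠ 0 := by rintro rfl; revert hb; decide
  have h1 : (a : ℚ) ≠ 0 := Int.cast_ne_zero.2 ha0
  have h2 : (b : ℚ) ≠ 0 := Int.cast_ne_zero.2 hb0
  have h3 : (1 + a + b : ℚ) ≠ 0 := by exact_mod_cast hf
  field_simp at h
  have hz : b * (a - x) ^ 2 + a * (b - y) ^ 2 + (a * (b - y) - b * (a - x)) ^ 2 = 0 := by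
    have : ((b * (a - x) ^ 2 + a * (b - y) ^ 2 + (a * (b - y) - b * (a - x)) ^ 2 : ℤ) : ℚ) = 0 := by
      push_cast
      linear_combination h
    exact_mod_cast this
  obtain ⟨e1, e2⟩ := descent ha hb _ _ hz
  exact ⟨by omega, by omega⟩

variable {ι : Type*} [Fintype ι] [DecidableEq ι]

omit [Fintype ι] [DecidableEq ι] in
private theorem sq_le_one_of_sum {s : Finset ι} {w : ι → ℤ} (h : ∑ i ∈ s, w i ^ 2 ≤ 3) {i : ι}
    (hi : i ∈ s) : w i = 0 ∨ w i = 1 ∨ w i = -1 := by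
  have h1 : w i ^ 2 ≤ 3 := le_trans (Finset.single_le_sum (f := fun i => w i ^ 2)
    (fun j _ => sq_nonneg _) hi) h
  have h2 : -1 ≤ w i := by nlinarith
  have h3 : w i ≤ 1 := by nlinarith
  omega

/-- At least five vectors of norm four with a common first coordinate one and mutual products
three share two further coordinates. -/
theorem star {o : ι} {W : Finset (ι → ℤ)} (h5 : 5 ≤ W.card) (ho : ∀ w ∈ W, w o = 1)
    (hn : ∀ w ∈ W, ∑ i, w i ^ 2 = 4) (hp : ∀ w ∈ W, ∀ w' ∈ W, w ≠ w' → ∑ i, w i * w' i = 3)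
    {w₀ : ι → ℤ} (hw₀ : w₀ ∈ W) :
    ∃ A B C : ι, A ≠ B ∧ A ≠ C ∧ B ≠ C ∧ A ≠ o ∧ B ≠ o ∧ C ≠ o ∧
      (w₀ A) ^ 2 = 1 ∧ (w₀ B) ^ 2 = 1 ∧ (w₀ C) ^ 2 = 1 ∧
      (∀ i, i ≠ o → i ≠ A → i ≠ B → i ≠ C → w₀ i = 0) ∧
      ∀ w ∈ W, w A = w₀ A ∧ w B = w₀ B := by
  classical
  set R : Finset ι := Finset.univ.erase o with hR
  have hnR : ∀ w ∈ W, ∑ i ∈ R, w i ^ 2 = 3 := fun w hw => by
    have := hn w hw
    rw [← Finset.add_sum_erase _ _ (Finset.mem_univ o), ho w hw, ← hR] at this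
    linarith
  have hpR : ∀ w ∈ W, ∀ w' ∈ W, w ≠ w' → ∑ i ∈ R, w i * w' i = 2 := fun w hw w' hw' hne => by
    have := hp w hw w' hw' hne
    rw [← Finset.add_sum_erase _ _ (Finset.mem_univ o), ho w hw, ho w' hw', ← hR] at this
    linarith
  set T := R.filter fun i => w₀ i ≠ 0 with hT
  have hTsq : ∀ i ∈ T, w₀ i ^ 2 = 1 := fun i hi => by
    obtain ⟨hiR, hi0⟩ := Finset.mem_filter.1 hi
    rcases sq_le_one_of_sum (hnR _ hw₀).le hiR with h | h | h <;> simp_all
  have hT3 : T.card = 3 := by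
    have h := hnR _ hw₀
    rw [← Finset.sum_filter_add_sum_filter_not R (fun i => w₀ i ≠ 0), ← hT,
      Finset.sum_congr rfl hTsq, Finset.sum_eq_zero (s := R.filter fun i => ¬ w₀ i ≠ 0) (fun i hi => by
        rw [not_not.1 (Finset.mem_filter.1 hi).2]; ring), add_zero] at h
    simp only [Finset.sum_const, nsmul_one] at h
    exact_mod_cast h
  have hsupp : ∀ i, i ∉ T → i ≠ o → w₀ i = 0 := fun i hi hio => by
    by_contra hne
    exact hi (Finset.mem_filter.2 ⟨Finset.mem_erase.2 ⟨hio, Finset.mem_univ _⟩, hne⟩)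
  -- every other vector agrees with `w₀` on two points of `T` and vanishes on the third
  have hmiss : ∀ w ∈ W, w ≠ w₀ → ∃ c ∈ T, w c = 0 ∧ (∀ i ∈ T, i ≠ c → w i = w₀ i) := by
    intro w hw hne
    have h := hpR w hw w₀ hw₀ hne
    rw [← Finset.sum_filter_add_sum_filter_not R (fun i => w₀ i ≠ 0), ← hT,
      Finset.sum_eq_zero (s := R.filter fun i => ¬ w₀ i ≠ 0) (fun i hi => by
        rw [not_not.1 (Finset.mem_filter.1 hi).2]; ring), add_zero] at h
    obtain ⟨p, q, r, hpq, hpr, hqr, hT'⟩ := Finset.card_eq_three.1 hT3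
    rw [hT', Finset.sum_insert (by simp [hpq, hpr]), Finset.sum_insert (by simp [hqr]),
      Finset.sum_singleton] at h
    have hv : ∀ i ∈ T, (w i = 0 ∨ w i = 1 ∨ w i = -1) ∧ (w₀ i = 1 ∨ w₀ i = -1) := fun i hi =>
      ⟨sq_le_one_of_sum (hnR _ hw).le (Finset.mem_filter.1 hi).1, sq_eq_one_iff.1 (hTsq i hi)⟩
    obtain ⟨a1, a2⟩ := hv p (by simp [hT'])
    obtain ⟨b1, b2⟩ := hv q (by simp [hT'])
    obtain ⟨c1, c2⟩ := hv r (by simp [hT'])
    rw [hT']
    simp only [Finset.mem_insert, Finset.mem_singleton, exists_eq_or_imp, exists_eq_left,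
      forall_eq_or_imp, forall_eq]
    rcases a2 with a2 | a2 <;> rcases b2 with b2 | b2 <;> rcases c2 with c2 | c2 <;>
      simp only [a2, b2, c2] at h ⊢ <;> rcases a1 with a1 | a1 | a1 <;>
      rcases b1 with b1 | b1 | b1 <;> rcases c1 with c1 | c1 | c1 <;>
      simp only [a1, b1, c1] at h <;> first
        | omega
        | simp [a1, b1, c1, hpq, hpr, hqr, hpq.symm, hpr.symm, hqr.symm]
  have : Nonempty ι := ⟨o⟩
  choose! c hcT hc0 hcw using hmiss
  set W' := W.erase w₀ with hW'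
  have hW'card : T.card < W'.card := by
    rw [hT3, hW', Finset.card_erase_of_mem hw₀]; omega
  obtain ⟨w1, hw1, w2, hw2, h12, hc12⟩ := Finset.exists_ne_map_eq_of_card_lt_of_maps_to
    (f := c) hW'card (fun w hw => hcT w (Finset.mem_of_mem_erase hw) (Finset.ne_of_mem_erase hw))
  -- the outside parts
  have hout : ∀ w ∈ W', ∀ w' ∈ W', w ≠ w' →
      ∑ i ∈ R \ T, w i * w' i = if c w = c w' then 0 else 1 := by
    intro w hw w' hw' hne
    obtain ⟨hwn, hwW⟩ := Finset.mem_erase.1 hw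
    obtain ⟨hwn', hwW'⟩ := Finset.mem_erase.1 hw'
    have h := hpR w hwW w' hwW' hne
    rw [← Finset.sum_sdiff (Finset.filter_subset _ _ : T ⊆ R)] at h
    have hval : ∀ i ∈ T, w i * w' i = if i = c w ∨ i = c w' then 0 else 1 := by
      intro i hi
      split_ifs with hh
      · rcases hh with rfl | rfl
        · rw [hc0 w hwW hwn, zero_mul]
        · rw [hc0 w' hwW' hwn', mul_zero]
      · push Not at hh
        rw [hcw w hwW hwn i hi hh.1, hcw w' hwW' hwn' i hi hh.2, ← pow_two, hTsq i hi]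
    rw [Finset.sum_congr rfl hval] at h
    have hcard : ∑ i ∈ T, (if i = c w ∨ i = c w' then (0 : ℤ) else 1) =
        if c w = c w' then 2 else 1 := by
      have h1 := hcT w hwW hwn
      have h2 := hcT w' hwW' hwn'
      rw [Finset.sum_ite, Finset.sum_const_zero, zero_add, Finset.sum_const, nsmul_one]
      have e : T.filter (fun i => ¬ (i = c w ∨ i = c w')) = (T.erase (c w)).erase (c w') := by
        ext i; simp only [Finset.mem_filter, Finset.mem_erase]; tauto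
      rw [e]
      split_ifs with hh
      · rw [← hh, Finset.erase_idem, Finset.card_erase_of_mem h1, hT3]; rfl
      · rw [Finset.card_erase_of_mem (Finset.mem_erase.2 ⟨Ne.symm hh, h2⟩),
          Finset.card_erase_of_mem h1, hT3]; rfl
    rw [hcard] at h
    split_ifs at h ⊢ <;> linarith
  have hone : ∀ w ∈ W', ∑ i ∈ R \ T, w i * w i = 1 := by
    intro w hw
    obtain ⟨hwn, hwW⟩ := Finset.mem_erase.1 hw
    have h := hnR w hwW
    simp only [pow_two] at h
    rw [← Finset.sum_sdiff (Finset.filter_subset _ _ : T ⊆ R)] at h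
    have hval : ∀ i ∈ T, w i * w i = if i = c w then 0 else 1 := by
      intro i hi
      split_ifs with hh
      · rw [hh, hc0 w hwW hwn, zero_mul]
      · rw [hcw w hwW hwn i hi hh, ← pow_two, hTsq i hi]
    rw [Finset.sum_congr rfl hval] at h
    have hcard : ∑ i ∈ T, (if i = c w then (0 : ℤ) else 1) = 2 := by
      rw [Finset.sum_ite, Finset.sum_const_zero, zero_add, Finset.sum_const, nsmul_one,
        Finset.filter_ne', Finset.card_erase_of_mem (hcT w hwW hwn), hT3]; rfl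
    rw [hcard] at h
    linarith
  have hall : ∀ w ∈ W', c w = c w1 := by
    intro w hw
    by_contra hne
    have e1 : ∀ v ∈ W', c v = c w1 → ∀ i ∈ R \ T, w i = v i := by
      intro v hv hcv i hi
      have hs : ∑ i ∈ R \ T, (w i - v i) ^ 2 = 0 := by
        have e := hout w hw v hv (fun e => hne (e ▸ hcv))
        rw [if_neg (fun e' => hne (e'.trans hcv))] at e
        rw [Finset.sum_congr rfl (fun i _ => show (w i - v i) ^ 2 =
            w i * w i + v i * v i - 2 * (w i * v i) by ring), Finset.sum_sub_distrib,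
          Finset.sum_add_distrib, ← Finset.mul_sum, hone w hw, hone v hv, e]
        norm_num
      have := (Finset.sum_eq_zero_iff_of_nonneg fun j _ => sq_nonneg (w j - v j)).1 hs i hi
      exact sub_eq_zero.1 (pow_eq_zero_iff two_ne_zero |>.1 this)
    have h := hout w1 hw1 w2 hw2 h12
    rw [if_pos hc12, Finset.sum_congr rfl (fun i hi => by
      rw [← e1 w1 hw1 rfl i hi, ← e1 w2 hw2 hc12.symm i hi]), hone w hw] at h
    exact one_ne_zero h
  obtain ⟨hw1n, hw1W⟩ := Finset.mem_erase.1 hw1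
  have hc : c w1 ∈ T := hcT w1 hw1W hw1n
  obtain ⟨A, B, hAB, hAB'⟩ := Finset.card_eq_two.1
    (show (T.erase (c w1)).card = 2 by rw [Finset.card_erase_of_mem hc, hT3])
  have hA : A ∈ T.erase (c w1) := by simp [hAB']
  have hB : B ∈ T.erase (c w1) := by simp [hAB']
  obtain ⟨hAc, hAT⟩ := Finset.mem_erase.1 hA
  obtain ⟨hBc, hBT⟩ := Finset.mem_erase.1 hB
  have hne_o : ∀ i ∈ T, i ≠ o := fun i hi => Finset.ne_of_mem_erase (Finset.mem_filter.1 hi).1
  refine ⟨A, B, c w1, hAB, hAc, hBc, hne_o _ hAT, hne_o _ hBT, hne_o _ hc, hTsq _ hAT, hTsq _ hBT,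
    hTsq _ hc, fun i hio hiA hiB hiC => hsupp i (fun hi => ?_) hio, fun w hw => ?_⟩
  · have := Finset.mem_erase.2 ⟨hiC, hi⟩
    simp [hAB', hiA, hiB] at this
  · by_cases hww : w = w₀
    · simp [hww]
    · rw [← hall w (Finset.mem_erase.2 ⟨hww, hw⟩)] at hAc hBc
      exact ⟨hcw w hw hww A hAT hAc, hcw w hw hww B hBT hBc⟩

end CfsgLib.InvCent.UnitarySylow
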