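import Cfsg.Agent.Lib.InvCentTwoNilp.UnitarySylow.Local
import Cfsg.Agent.Lib.ZStar.Main
import Cfsg.Agent.Lib.Blocks.Principal
import Cfsg.Agent.Lib.Blocks.Orthogonality
import Cfsg.Agent.Lib.CharDegree.Basic

/-!
# Class functions supported on the 2-singular sections (S3214)

For a fusion invariant function `a` on `S` vanishing at the identity, `lift a` takes at `g` the value
of `a` at a conjugate in `S` of the 2-part of `g`.  Only principal block characters correlate with it.
-/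

set_option autoImplicit false
set_option linter.unusedSectionVars false

open scoped Classical ComplexConjugate

namespace CfsgLib.InvCent.UnitarySylow

open Subgroup Cfsg CfsgLib.Blocks

variable {G : Type*} [Group G] [Fintype G] {S : Sylow 2 G}

/-- The involution below an element of `S`. -/
noncomputable def root (x : G) : G := if x * x = 1 then x else x * x

/-- The odd part of the centraliser of an element of `S`. -/
noncomputable def oddCent (x : G) : Subgroup G := theta (root x) ⊓ centralizer ({x} : Set G)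

theorem exists_conj_pPart (S : Sylow 2 G) (g : G) :
    ∃ y w : G, y ∈ (S : Subgroup G) ∧ IsPPart 2 g (w * y * w⁻¹) := by
  have : Fact (Nat.Prime 2) := ⟨Nat.prime_two⟩
  obtain ⟨x, hx⟩ := exists_pPart Nat.prime_two g
  obtain ⟨y', -, -, ⟨k, hk⟩, -⟩ := id hx
  obtain ⟨w, hw⟩ := TwoGroups.exists_conj_le_sylow S (P := zpowers x)
    (IsPGroup.of_card (n := k) (by rw [Nat.card_zpowers, hk]))
  refine ⟨w * x * w⁻¹, w⁻¹, hw ⟨x, mem_zpowers x, rfl⟩, ?_⟩
  rwa [show w⁻¹ * (w * x * w⁻¹) * w⁻¹⁻¹ = x by group]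

/-- The function on `G` attached to a function on `S`. -/
noncomputable def lift (S : Sylow 2 G) (a : G → ℂ) (g : G) : ℂ := a (exists_conj_pPart S g).choose

/-- Invariance under fusion in `S`. -/
def Inv (S : Sylow 2 G) (a : G → ℂ) : Prop :=
  ∀ g x : G, x ∈ (S : Subgroup G) → g * x * g⁻¹ ∈ (S : Subgroup G) → a (g * x * g⁻¹) = a x

theorem pPart_unique {g u v : G} (hu : IsPPart 2 g u) (hv : IsPPart 2 g v) : u = v := by
  have := conj_pPart_eq Nat.prime_two hu hv (x := 1) (j := 1) (by norm_num) (by simp)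
  simpa using this

theorem lift_eq {a : G → ℂ} (ha : Inv S a) {g y w : G} (hy : y ∈ (S : Subgroup G))
    (h : IsPPart 2 g (w * y * w⁻¹)) : lift S a g = a y := by
  obtain ⟨w', hy', h'⟩ := (exists_conj_pPart S g).choose_spec
  set y' := (exists_conj_pPart S g).choose with hy'def
  have e := pPart_unique h' h
  have e' : w⁻¹ * w' * y' * (w⁻¹ * w')⁻¹ = y := by
    rw [show w⁻¹ * w' * y' * (w⁻¹ * w')⁻¹ = w⁻¹ * (w' * y' * w'⁻¹) * w by group, e]; group
  show a y' = a y
  rw [← e']
  exact (ha _ _ hy' (by rw [e']; exact hy)).symm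

theorem pPart_conj {g x : G} (w : G) (h : IsPPart 2 g x) : IsPPart 2 (w * g * w⁻¹) (w * x * w⁻¹) := by
  obtain ⟨y, rfl, hc, ⟨k, hk⟩, hy⟩ := h
  refine ⟨w * y * w⁻¹, by group, ?_, ⟨k, ?_⟩, ?_⟩
  · show w * x * w⁻¹ * (w * y * w⁻¹) = w * y * w⁻¹ * (w * x * w⁻¹)
    rw [show w * x * w⁻¹ * (w * y * w⁻¹) = w * (x * y) * w⁻¹ by group, hc.eq]; group
  · rw [Signalizer.orderOf_conj, hk]
  · rwa [Signalizer.orderOf_conj]

theorem isClassFunction_lift {a : G → ℂ} (ha : Inv S a) : IsClassFunction G (lift S a) := by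
  intro g h
  obtain ⟨y, w, hy, hp⟩ := exists_conj_pPart S g
  rw [lift_eq ha hy hp]
  refine lift_eq ha hy (w := h * w) ?_
  rw [show h * w * y * (h * w)⁻¹ = h * (w * y * w⁻¹) * h⁻¹ by group]
  exact pPart_conj h hp

theorem odd_oddCent (x : G) : Odd (Nat.card (oddCent x)) :=
  (odd_card_theta (root x)).of_dvd_nat (card_dvd_of_le inf_le_left)

namespace Ctx

variable (K : Ctx S)
include K

theorem root_spec {x : G} (hx : x ∈ (S : Subgroup G)) (h1 : x ≠ 1) :
    InZ S (root x) ∧ orderOf (root x) = 2 ∧ (∀ g : G, g * x = x * g → g * root x = root x * g) ∧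
      ((x * x = 1 → root x = x) ∧ (x * x ≠ 1 → root x = x * x)) := by
  obtain ⟨c, h2, h3, h4, h5, h6⟩ := K.orderOf_root hx h1
  have e : root x = c := by
    unfold root
    split_ifs with h
    · exact (h5 h).symm
    · exact (h6 h).symm
  rw [e]
  exact ⟨h2, h3, h4, h5, h6⟩

theorem pPart_of_oddCent {x u : G} (hx : x ∈ (S : Subgroup G)) (hu : u ∈ oddCent x) :
    IsPPart 2 (x * u) x := by
  obtain ⟨k, hk⟩ := S.isPGroup' ⟨x, hx⟩
  have hk' : x ^ 2 ^ k = 1 := congrArg Subtype.val hk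
  obtain ⟨j, -, hj⟩ := (Nat.dvd_prime_pow Nat.prime_two).1 (orderOf_dvd_of_pow_eq_one hk')
  exact ⟨u, rfl, (mem_cent.1 hu.2).symm, ⟨j, hj⟩,
    (odd_orderOf_of_mem (odd_oddCent x) hu).not_two_dvd_nat⟩

theorem mem_oddCent {x u : G} (hx : x ∈ (S : Subgroup G)) (h1 : x ≠ 1) (hu : u * x = x * u)
    (hodd : Odd (orderOf u)) : u ∈ oddCent x := by
  obtain ⟨-, ho, hc, -⟩ := K.root_spec hx h1
  exact ⟨K.hI.mem_theta ho (hc u hu) hodd, mem_cent.2 hu⟩

variable {n : G} (C : Cycle S n)
include C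

/-- The number of elements carrying `x` into `S`. -/
theorem card_carriers {x : G} (hx : x ∈ (S : Subgroup G)) (h1 : x ≠ 1) :
    Nat.card {g : G // g * x * g⁻¹ ∈ (S : Subgroup G)} = 192 * Nat.card (oddCent x) := by
  obtain ⟨hc, ho, hcom, hroot⟩ := K.root_spec hx h1
  have hmem : ∀ (p : Fin 3 × ↥(S : Subgroup G) × ↥(oddCent x)),
      n ^ (p.1 : ℕ) * (p.2.1 : G) * (p.2.2 : G) * x * (n ^ (p.1 : ℕ) * (p.2.1 : G) * (p.2.2 : G))⁻¹ ∈
        (S : Subgroup G) := by
    rintro ⟨i, s, u⟩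
    rw [show n ^ (i : ℕ) * (s : G) * (u : G) * x * (n ^ (i : ℕ) * (s : G) * (u : G))⁻¹ =
      n ^ (i : ℕ) * (s * (u * x * (u : G)⁻¹) * (s : G)⁻¹) * (n ^ (i : ℕ))⁻¹ by group,
      mem_cent.1 u.2.2, mul_inv_cancel_right]
    exact conj_mem C (mul_mem (mul_mem s.2 hx) (inv_mem s.2)) i
  rw [← Nat.card_congr (Equiv.ofBijective (fun p => (⟨_, hmem p⟩ :
    {g : G // g * x * g⁻¹ ∈ (S : Subgroup G)})) ⟨?_, ?_⟩), Nat.card_prod, Nat.card_prod,
    Nat.card_fin, K.shape.card]
  · ring
  · rintro ⟨i, s, u⟩ ⟨j, s', u'⟩ e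
    obtain ⟨h1', h2, h3⟩ := K.factor_unique C hc ho i.2 j.2 s.2 s'.2 u.2.1 u'.2.1
      (congrArg Subtype.val e)
    rw [Fin.ext h1', Subtype.ext h2, Subtype.ext h3]
  · rintro ⟨g, hg⟩
    obtain ⟨i, hi, s, hs, u, hu, hux, rfl⟩ := K.exists_factor C hc ho hx hroot hg
    exact ⟨⟨⟨i, hi⟩, ⟨s, hs⟩, ⟨u, hu, mem_cent.2 hux⟩⟩, rfl⟩

/-- A lifted function as a sum over the sections. -/
theorem lift_eq_sum {a : G → ℂ} (ha : Inv S a) (ha1 : a 1 = 0) (g : G) :
    lift S a g = ∑ y : (S : Subgroup G), a y / (192 * Nat.card (oddCent (y : G))) *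
      ∑ u : oddCent (y : G), ∑ w : G,
        if w * ((y : G) * (u : G)) * w⁻¹ = g then 1 else 0 := by
  obtain ⟨y0, w0, hy0, hp⟩ := exists_conj_pPart S g
  rw [lift_eq ha hy0 hp]
  set x := w0 * y0 * w0⁻¹ with hxdef
  -- the contribution of a single `w`
  have hterm : ∀ w : G, (∑ y : (S : Subgroup G), a y / (192 * Nat.card (oddCent (y : G))) *
      ∑ u : oddCent (y : G), if w * ((y : G) * (u : G)) * w⁻¹ = g then (1 : ℂ) else 0) =
      if w⁻¹ * x * w ∈ (S : Subgroup G) then
        a y0 / Nat.card {w : G // w⁻¹ * x * w ∈ (S : Subgroup G)} else 0 := by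
    intro w
    have key : ∀ (y : (S : Subgroup G)) (u : oddCent (y : G)),
        w * ((y : G) * (u : G)) * w⁻¹ = g → (y : G) = w⁻¹ * x * w := by
      intro y u e
      have h' := pPart_conj w (K.pPart_of_oddCent y.2 u.2)
      rw [e] at h'
      rw [← pPart_unique h' hp]; group
    by_cases hw : w⁻¹ * x * w ∈ (S : Subgroup G)
    · set y1 : (S : Subgroup G) := ⟨w⁻¹ * x * w, hw⟩
      have hay : a y1 = a y0 := by
        have e : w⁻¹ * w0 * y0 * (w⁻¹ * w0)⁻¹ = w⁻¹ * x * w := by rw [hxdef]; group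
        show a (w⁻¹ * x * w) = a y0
        rw [← e]; exact ha _ _ hy0 (by rw [e]; exact hw)
      rw [if_pos hw, Finset.sum_eq_single y1 (fun y _ hy => by
        rw [Finset.sum_eq_zero fun u _ => if_neg fun e => hy (Subtype.ext (key y u e)), mul_zero])
        (fun h => absurd (Finset.mem_univ _) h)]
      by_cases h1 : (y1 : G) = 1
      · rw [h1, ha1, zero_div, zero_mul]
        rw [← hay, h1, ha1, zero_div]
      obtain ⟨p, hpg, hcomm, -, hpodd⟩ := id hp
      have hmem : w⁻¹ * p * w ∈ oddCent (y1 : G) := by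
        refine K.mem_oddCent y1.2 h1 ?_ ?_
        · show w⁻¹ * p * w * (w⁻¹ * x * w) = w⁻¹ * x * w * (w⁻¹ * p * w)
          rw [show w⁻¹ * p * w * (w⁻¹ * x * w) = w⁻¹ * (p * x) * w by group, ← hcomm.eq]; group
        · rw [show w⁻¹ * p * w = w⁻¹ * p * w⁻¹⁻¹ by rw [inv_inv], Signalizer.orderOf_conj,
            ← Nat.not_even_iff_odd]
          exact fun h => hpodd h.two_dvd
      rw [Finset.sum_eq_single (⟨_, hmem⟩ : oddCent (y1 : G)) (fun u _ hu => if_neg fun e => hu
          (Subtype.ext (by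
            show (u : G) = w⁻¹ * p * w
            have e' : (y1 : G) * (u : G) = w⁻¹ * g * w := by rw [← e]; group
            rw [← hpg, show w⁻¹ * (x * p) * w = (y1 : G) * (w⁻¹ * p * w) by
              show _ = w⁻¹ * x * w * _; group] at e'
            exact mul_left_cancel e')))
        (fun h => absurd (Finset.mem_univ _) h), if_pos (by
          show w * (w⁻¹ * x * w * (w⁻¹ * p * w)) * w⁻¹ = g
          rw [← hpg]; group), mul_one, hay]
      have hcard : 192 * Nat.card (oddCent (y1 : G)) =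
          Nat.card {v : G // v⁻¹ * x * v ∈ (S : Subgroup G)} := by
        rw [← K.card_carriers C y1.2 h1]
        refine Nat.card_congr
          { toFun := fun v => ⟨w * (v : G)⁻¹, ?_⟩
            invFun := fun v => ⟨(v : G)⁻¹ * w, ?_⟩
            left_inv := fun v => Subtype.ext (by group)
            right_inv := fun v => Subtype.ext (by group) }
        · have h' : (v : G) * (w⁻¹ * x * w) * (v : G)⁻¹ ∈ (S : Subgroup G) := v.2
          rwa [show (w * (v : G)⁻¹)⁻¹ * x * (w * (v : G)⁻¹) = (v : G) * (w⁻¹ * x * w) * (v : G)⁻¹ by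
            group]
        · show (v : G)⁻¹ * w * (w⁻¹ * x * w) * ((v : G)⁻¹ * w)⁻¹ ∈ (S : Subgroup G)
          rw [show (v : G)⁻¹ * w * (w⁻¹ * x * w) * ((v : G)⁻¹ * w)⁻¹ = (v : G)⁻¹ * x * (v : G) by
            group]
          exact v.2
      rw [← hcard]; push_cast; ring
    · rw [if_neg hw]
      refine Finset.sum_eq_zero fun y _ => ?_
      rw [Finset.sum_eq_zero fun u _ => if_neg fun e => hw (by rw [← key y u e]; exact y.2), mul_zero]
  have hne : (Nat.card {w : G // w⁻¹ * x * w ∈ (S : Subgroup G)} : ℂ) ≠ 0 := by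
    have : Nonempty {w : G // w⁻¹ * x * w ∈ (S : Subgroup G)} :=
      ⟨⟨w0, by rw [show w0⁻¹ * x * w0 = y0 by rw [hxdef]; group]; exact hy0⟩⟩
    exact_mod_cast Nat.card_pos.ne'
  symm
  calc _ = ∑ w : G, ∑ y : (S : Subgroup G), a y / (192 * Nat.card (oddCent (y : G))) *
        ∑ u : oddCent (y : G), (if w * ((y : G) * (u : G)) * w⁻¹ = g then (1 : ℂ) else 0) := by
        rw [Finset.sum_comm]
        refine Finset.sum_congr rfl fun y _ => ?_
        rw [Finset.sum_comm, Finset.mul_sum]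
    _ = _ := by
        rw [Finset.sum_congr rfl fun w _ => hterm w, Finset.sum_ite, Finset.sum_const_zero, add_zero,
          Finset.sum_const, nsmul_eq_mul, ← Fintype.card_subtype, ← Nat.card_eq_fintype_card,
          mul_div_cancel₀ _ hne]

/-- Inner products with a lifted function. -/
theorem classInner_lift {a : G → ℂ} (ha : Inv S a) (ha1 : a 1 = 0) {F : G → ℂ}
    (hF : IsClassFunction G F) :
    classInner (lift S a) F = (192 : ℂ)⁻¹ * ∑ y : (S : Subgroup G), a y *
      ((Nat.card (oddCent (y : G)) : ℂ)⁻¹ * conj (∑ u : oddCent (y : G), F ((y : G) * (u : G)))) := by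
  rw [classInner, Finset.sum_congr rfl fun g _ => by rw [K.lift_eq_sum C ha ha1 g, Finset.sum_mul],
    Finset.sum_comm, Finset.mul_sum, Finset.mul_sum]
  refine Finset.sum_congr rfl fun y _ => ?_
  rw [Finset.sum_congr rfl fun g _ => mul_assoc _ _ (conj (F g)), ← Finset.mul_sum]
  simp only [Finset.sum_mul, ite_mul, one_mul, zero_mul]
  rw [Finset.sum_comm, map_sum]
  have hG : (Nat.card G : ℂ) ≠ 0 := Nat.cast_ne_zero.2 Nat.card_pos.ne'
  have h : ∀ u : oddCent (y : G), (∑ g : G, ∑ w : G,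
      if w * ((y : G) * (u : G)) * w⁻¹ = g then conj (F g) else 0) =
      (Nat.card G : ℂ) * conj (F ((y : G) * (u : G))) := by
    intro u
    rw [Finset.sum_comm]
    simp only [Finset.sum_ite_eq, Finset.mem_univ, if_true]
    rw [Finset.sum_congr rfl (g := fun _ => conj (F ((y : G) * (u : G)))) fun w _ => by rw [hF _ w],
      Finset.sum_const, Finset.card_univ, nsmul_eq_mul, Nat.card_eq_fintype_card]
  rw [Finset.sum_congr rfl fun u _ => h u, ← Finset.mul_sum]
  field_simp

omit C in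
/-- The average of an irreducible character over a section. -/
theorem sum_section {M : Ideal AlgInt} [M.IsPrime] (hM : IsPModular 2 M) (χ : IrrCharacter G)
    {x : G} (hx : x ∈ (S : Subgroup G)) (h1 : x ≠ 1) :
    ∑ u : oddCent x, (χ : G → ℂ) (x * (u : G)) =
      if χ ∈ principalBlock M G then (Nat.card (oddCent x) : ℂ) * (χ : G → ℂ) x else 0 := by
  have : Fact (Nat.Prime 2) := ⟨Nat.prime_two⟩
  obtain ⟨hc, ho, hcom, -⟩ := K.root_spec hx h1
  obtain ⟨-, -, -, ⟨k, hk⟩, -⟩ := K.pPart_of_oddCent (u := 1) hx (one_mem _)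
  set N : Subgroup (centralizer ({x} : Set G)) := (oddCent x).subgroupOf _ with hN
  have hNle : oddCent x ≤ centralizer ({x} : Set G) := inf_le_right
  have : N.Normal := normal_subgroupOf_of_le_normalizer fun g hg => by
    refine mem_normalizer_iff.2 fun u => ?_
    have hgθ := mem_normalizer_iff.1 (le_normalizer_theta (root x) (mem_cent.2 (hcom g (mem_cent.1 hg)))) u
    constructor
    · rintro ⟨a, b⟩
      exact ⟨hgθ.1 a, (centralizer ({x} : Set G)).mul_mem ((centralizer ({x} : Set G)).mul_mem hg b)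
        ((centralizer ({x} : Set G)).inv_mem hg)⟩
    · rintro ⟨a, b⟩
      refine ⟨hgθ.2 a, ?_⟩
      have := (centralizer ({x} : Set G)).mul_mem
        ((centralizer ({x} : Set G)).mul_mem ((centralizer ({x} : Set G)).inv_mem hg) b) hg
      simpa [mul_assoc] using this
  have hodd : ¬ 2 ∣ Nat.card N := by
    rw [hN, Nat.card_congr (subgroupOfEquivOfLe hNle).toEquiv]
    exact (odd_oddCent x).not_two_dvd_nat
  have hp : IsPGroup 2 (↥(centralizer ({x} : Set G)) ⧸ N) := by
    intro q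
    obtain ⟨⟨g, hg⟩, rfl⟩ := QuotientGroup.mk_surjective q
    obtain ⟨u, hu, s, hs, rfl, hux, hsx⟩ := K.centralizer_decomp hc ho hx hcom (mem_cent.1 hg)
    obtain ⟨j, hj⟩ := S.isPGroup' ⟨s, hs⟩
    refine ⟨j, ?_⟩
    have e : (QuotientGroup.mk (⟨u * s, hg⟩ : centralizer ({x} : Set G)) :
        ↥(centralizer ({x} : Set G)) ⧸ N) = QuotientGroup.mk ⟨s, mem_cent.2 hsx⟩ := by
      have hu' : (⟨u, mem_cent.2 hux⟩ : centralizer ({x} : Set G)) ∈ N := ⟨hu, mem_cent.2 hux⟩
      rw [show (⟨u * s, hg⟩ : centralizer ({x} : Set G)) = ⟨u, mem_cent.2 hux⟩ * ⟨s, mem_cent.2 hsx⟩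
        from rfl, QuotientGroup.mk_mul, (QuotientGroup.eq_one_iff _).2 hu', one_mul]
    rw [e, ← QuotientGroup.mk_pow,
      show (⟨s, mem_cent.2 hsx⟩ : centralizer ({x} : Set G)) ^ 2 ^ j = 1 from
        Subtype.ext (show s ^ 2 ^ j = 1 from congrArg Subtype.val hj), QuotientGroup.mk_one]
  obtain ⟨r, hr⟩ := hp.exists_card_eq
  have hb := Blocks.principalBlock_eq_of_complement N hM hodd (k := r) hr
  have hbp := Blocks.blockPart_principal_translate hM ⟨k, hk⟩ χ
    (y := (1 : centralizer ({x} : Set G))) (by simp)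
  rw [OneMemClass.coe_one, mul_one, hb, blockPart_eq] at hbp
  let e : N ≃ oddCent x := (subgroupOfEquivOfLe hNle).toEquiv
  have := Fintype.ofFinite (IrrCharacter (centralizer ({x} : Set G)))
  rw [← Fintype.sum_equiv e (fun u : N => (χ : G → ℂ) (x * ((u : centralizer ({x} : Set G)) : G))) _
    fun u => rfl]
  rw [Finset.sum_congr rfl fun (u : N) _ =>
    Char.classFunction_apply_eq_sum (Blocks.isClassFunction_translate χ) (u : centralizer ({x} : Set G)),
    Finset.sum_comm]
  have hsum : ∀ ψ : IrrCharacter (centralizer ({x} : Set G)),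
      ∑ u : N, (ψ : centralizer ({x} : Set G) → ℂ) u =
        if ψ ∈ {χ : IrrCharacter (centralizer ({x} : Set G)) | ∀ n ∈ N,
            (χ : centralizer ({x} : Set G) → ℂ) n = (χ : centralizer ({x} : Set G) → ℂ) 1}
        then (Nat.card N : ℂ) * (ψ : centralizer ({x} : Set G) → ℂ) 1 else 0 := by
    intro ψ
    split_ifs with h
    · rw [Finset.sum_congr rfl fun (u : N) _ => h u u.2, Finset.sum_const, Finset.card_univ,
        nsmul_eq_mul, Nat.card_eq_fintype_card]
    · have h0 := (Blocks.omega_avgElt_eq_or N ψ).resolve_right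
        (fun e => h ((Blocks.omega_avgElt_eq_one_iff N ψ).1 e))
      rw [Blocks.omega_avgElt, div_eq_zero_iff, or_iff_left (Char.IsIrr.apply_one_ne_zero ψ.2),
        mul_eq_zero, or_iff_right (inv_ne_zero (Nat.cast_ne_zero.2 Nat.card_pos.ne'))] at h0
      exact h0
  rw [Finset.sum_congr rfl fun ψ _ => by rw [← Finset.mul_sum, hsum ψ]]
  simp only [mul_ite, mul_zero, ← Finset.sum_filter]
  rw [finsum_mem_eq_finite_toFinset_sum _ (Set.toFinite _), Set.Finite.toFinset_ofPred] at hbp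
  have hN' : (Nat.card N : ℂ) = Nat.card (oddCent x) := congrArg Nat.cast (Nat.card_congr e)
  simp only [Set.mem_ofPred_eq]
  rw [Finset.sum_congr rfl fun ψ _ => mul_left_comm _ _ _, ← Finset.mul_sum, hbp, hN', mul_ite, mul_zero]

end Ctx

end CfsgLib.InvCent.UnitarySylow
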