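import Cfsg.Agent.Lib.InvCentTwoNilp.UnitarySylow.Arith
import Cfsg.Agent.Lib.InvCentTwoNilp.UnitarySylow.Section
import Mathlib.GroupTheory.FiniteAbelian.Duality
import Mathlib.RingTheory.RootsOfUnity.Complex

/-!
# No simple group with 2-nilpotent involution centralisers has a Sylow 2-subgroup of type U₃(4) (S3214)

For a nontrivial linear character `l` of `S / Z` the function `∑ᵢ (1 - l ∘ n ^ i)` lifts to a virtual
character of norm four.  These share two constituents of signed degree one modulo four, and the class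
multiplication at an involution gives an equation that forces such a constituent to have the
involution in its kernel.
-/

set_option autoImplicit false
set_option linter.unusedSectionVars false

open scoped Classical ComplexConjugate

namespace CfsgLib.InvCent.UnitarySylow

open Subgroup Cfsg CfsgLib.Blocks

variable {G : Type*} [Group G] [Fintype G] {S : Sylow 2 G}

namespace Ctx

variable (K : Ctx S)
include K

theorem mem_center_of_inZ {x : (S : Subgroup G)} (hx : InZ S (x : G)) : x ∈ center (S : Subgroup G) :=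
  (K.shape.mem_center_iff x).2 (Subtype.ext hx.2)

theorem inZ_of_mem_center {x : (S : Subgroup G)} (hx : x ∈ center (S : Subgroup G)) : InZ S (x : G) :=
  ⟨x.2, congrArg Subtype.val ((K.shape.mem_center_iff x).1 hx)⟩

theorem quotient_sq (v : ↥(S : Subgroup G) ⧸ center (S : Subgroup G)) : v * v = 1 := by
  obtain ⟨x, rfl⟩ := QuotientGroup.mk_surjective v
  exact (QuotientGroup.eq_one_iff (x * x)).2 (K.shape.sq_mem x)

theorem quotient_comm (v w : ↥(S : Subgroup G) ⧸ center (S : Subgroup G)) : v * w = w * v := by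
  obtain ⟨x, rfl⟩ := QuotientGroup.mk_surjective v
  obtain ⟨y, rfl⟩ := QuotientGroup.mk_surjective w
  rw [← QuotientGroup.mk_mul, ← QuotientGroup.mk_mul, QuotientGroup.eq]
  refine K.mem_center_of_inZ ?_
  have h := K.inZ_comm (h := (y : G)⁻¹) (x := (x : G)) (inv_mem y.2) x.2
  rw [show (((x * y)⁻¹ * (y * x) : (S : Subgroup G)) : G) =
      ((x : G)⁻¹ * ((y : G)⁻¹ * x * (y : G)⁻¹⁻¹))⁻¹ by push_cast; group]
  exact K.inZ_inv h

theorem quotient_shuffle (a b c d : ↥(S : Subgroup G) ⧸ center (S : Subgroup G)) :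
    b * a * (c * d) = a * c * (b * d) := by
  rw [K.quotient_comm b a, mul_assoc, ← mul_assoc b c d, K.quotient_comm b c, mul_assoc, ← mul_assoc]

end Ctx

/-- The linear characters of `S` trivial on its centre. -/
abbrev Lin (S : Sylow 2 G) := (↥(S : Subgroup G) ⧸ center (S : Subgroup G)) →* ℂˣ

/-- A linear character as a function on `G`. -/
noncomputable def ev (l : Lin S) (x : G) : ℂ :=
  if h : x ∈ (S : Subgroup G) then ((l (QuotientGroup.mk ⟨x, h⟩) : ℂˣ) : ℂ) else 0

theorem ev_coe (l : Lin S) (x : (S : Subgroup G)) : ev l (x : G) = ((l (QuotientGroup.mk x) : ℂˣ) : ℂ) := by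
  rw [ev, dif_pos x.2]

theorem ev_mul (l : Lin S) {x y : G} (hx : x ∈ (S : Subgroup G)) (hy : y ∈ (S : Subgroup G)) :
    ev l (x * y) = ev l x * ev l y := by
  rw [ev, ev, ev, dif_pos (mul_mem hx hy), dif_pos hx, dif_pos hy, ← Units.val_mul, ← map_mul]
  rfl

theorem ev_one (l : Lin S) : ev l (1 : G) = 1 := by
  rw [show (1 : G) = ((1 : (S : Subgroup G)) : G) from rfl, ev_coe, QuotientGroup.mk_one, map_one,
    Units.val_one]

/-- The fusion invariant function of a linear character. -/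
noncomputable def prof (n : G) (l : Lin S) (x : G) : ℂ :=
  ∑ i : Fin 3, (1 - ev l (n ^ (i : ℕ) * x * (n ^ (i : ℕ))⁻¹))

namespace Ctx

variable (K : Ctx S)
include K

theorem ev_inZ (l : Lin S) {x : G} (hx : InZ S x) : ev l x = 1 := by
  rw [show x = ((⟨x, hx.1⟩ : (S : Subgroup G)) : G) from rfl, ev_coe,
    (QuotientGroup.eq_one_iff _).2 (K.mem_center_of_inZ hx), map_one, Units.val_one]

theorem ev_coset (l : Lin S) {x y : G} (hx : x ∈ (S : Subgroup G)) (h : InZ S (x⁻¹ * y)) :
    ev l y = ev l x := by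
  conv_lhs => rw [show y = x * (x⁻¹ * y) by group]
  rw [ev_mul l hx h.1, K.ev_inZ l h, mul_one]

theorem ev_real (l : Lin S) (x : (S : Subgroup G)) : conj (ev l (x : G)) = ev l (x : G) := by
  have h : ev l (x : G) * ev l (x : G) = 1 := by
    rw [← ev_mul l x.2 x.2]; exact K.ev_inZ l (K.inZ_sq x.2)
  rcases mul_self_eq_one_iff.1 h with e | e <;> simp [e]

variable {n : G} (C : Cycle S n)
include C

theorem sum_conj (f : G → ℂ) (i : ℕ) :
    ∑ y : (S : Subgroup G), f (n ^ i * y * (n ^ i)⁻¹) = ∑ y : (S : Subgroup G), f y :=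
  Fintype.sum_equiv
    { toFun := fun y : ↥(S : Subgroup G) =>
        (⟨n ^ i * (y : G) * (n ^ i)⁻¹, conj_mem C y.2 i⟩ : ↥(S : Subgroup G))
      invFun := fun y => ⟨(n ^ i)⁻¹ * (y : G) * n ^ i, by
        have := (mem_normalizer_iff.1 (inv_mem (pow_mem C.norm i)) (y : G)).1 y.2
        rwa [inv_inv] at this⟩
      left_inv := fun y => Subtype.ext (by group)
      right_inv := fun y => Subtype.ext (by group) } _ _ fun y => rfl

theorem prof_shift (l : Lin S) {x : G} (hx : x ∈ (S : Subgroup G)) (j : ℕ) :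
    prof n l (n ^ j * x * (n ^ j)⁻¹) = prof n l x := by
  induction j with
  | zero => simp
  | succ j ih =>
    rw [← ih, pow_succ_conj C]
    set y := n ^ j * x * (n ^ j)⁻¹ with hy
    have hyS : y ∈ (S : Subgroup G) := conj_mem C hx j
    unfold prof
    rw [Fin.sum_univ_three, Fin.sum_univ_three]
    have h3 := K.ev_coset l hyS (K.pow_three_coset C hyS)
    simp only [Fin.val_zero, Fin.val_one, Fin.val_two, pow_zero, one_mul, inv_one, mul_one, pow_one]
    rw [show n ^ 2 * (n * y * n⁻¹) * (n ^ 2)⁻¹ = n ^ 3 * y * (n ^ 3)⁻¹ by group, h3,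
      show n * (n * y * n⁻¹) * n⁻¹ = n ^ 2 * y * (n ^ 2)⁻¹ by rw [pow_two]; group]
    ring

theorem prof_inZ (l : Lin S) {x : G} (hx : InZ S x) : prof n l x = 0 :=
  Finset.sum_eq_zero fun i _ => by rw [K.ev_inZ l (conj_inZ C hx i), sub_self]

theorem prof_one (l : Lin S) : prof n l 1 = 0 := K.prof_inZ C l inZ_one

theorem prof_inv (l : Lin S) : Inv S (prof n l) := by
  intro g x hx hg
  by_cases h1 : x = 1
  · subst h1; simp
  obtain ⟨hc, ho, -, hroot⟩ := K.root_spec hx h1
  obtain ⟨j, -, s, hs, u, -, hux, rfl⟩ := K.exists_factor C hc ho hx hroot hg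
  rw [show n ^ j * s * u * x * (n ^ j * s * u)⁻¹ = n ^ j * (s * (u * x * u⁻¹) * s⁻¹) * (n ^ j)⁻¹ by
    group, hux, mul_inv_cancel_right, K.prof_shift C l (mul_mem (mul_mem hs hx) (inv_mem hs))]
  refine Finset.sum_congr rfl fun i _ => congrArg (1 - ·) (K.ev_coset l (conj_mem C hx i) ?_)
  rw [show (n ^ (i : ℕ) * x * (n ^ (i : ℕ))⁻¹)⁻¹ * (n ^ (i : ℕ) * (s * x * s⁻¹) * (n ^ (i : ℕ))⁻¹) =
    n ^ (i : ℕ) * (x⁻¹ * (s * x * s⁻¹)) * (n ^ (i : ℕ))⁻¹ by group]
  exact conj_inZ C (K.inZ_comm hs hx) i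

omit K in
/-- A linear character composed with a power of `n`. -/
theorem exists_twist (l : Lin S) (i : ℕ) :
    ∃ m : Lin S, ∀ x : (S : Subgroup G), ev m (x : G) = ev l (n ^ i * x * (n ^ i)⁻¹) := by
  let φ : (S : Subgroup G) →* ↥(S : Subgroup G) :=
    { toFun := fun y => ⟨n ^ i * y * (n ^ i)⁻¹, conj_mem C y.2 i⟩
      map_one' := Subtype.ext (by simp)
      map_mul' := fun a b => Subtype.ext (by simp [mul_assoc]) }
  refine ⟨QuotientGroup.lift _ (l.comp ((QuotientGroup.mk' _).comp φ)) fun y hy => ?_, fun x => ?_⟩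
  · have hφ : φ y ∈ center (S : Subgroup G) := by
      rw [mem_center_iff]
      intro s
      obtain ⟨t, ht⟩ : ∃ t : (S : Subgroup G), φ t = s := ⟨⟨(n ^ i)⁻¹ * s * n ^ i, by
        have := (mem_normalizer_iff.1 (inv_mem (pow_mem C.norm i)) (s : G)).1 s.2
        rwa [inv_inv] at this⟩, Subtype.ext (show n ^ i * ((n ^ i)⁻¹ * s * n ^ i) * (n ^ i)⁻¹ = s by group)⟩
      rw [← ht, ← map_mul, ← map_mul, mem_center_iff.1 hy t]
    show l (QuotientGroup.mk (φ y)) = 1
    rw [(QuotientGroup.eq_one_iff _).2 hφ, map_one]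
  · rw [ev_coe, show n ^ i * (x : G) * (n ^ i)⁻¹ = ((φ x : (S : Subgroup G)) : G) from rfl, ev_coe]
    rfl

/-- The `i`-th conjugate of a linear character. -/
noncomputable def twist (l : Lin S) (i : ℕ) : Lin S := (exists_twist C l i).choose

omit K in
theorem twist_spec (l : Lin S) (i : ℕ) (x : (S : Subgroup G)) :
    ev (twist C l i) (x : G) = ev l (n ^ i * x * (n ^ i)⁻¹) := (exists_twist C l i).choose_spec x

omit C in
theorem ext_of_ev {l m : Lin S} (h : ∀ x : (S : Subgroup G), ev l (x : G) = ev m (x : G)) : l = m := by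
  refine MonoidHom.ext fun v => ?_
  obtain ⟨x, rfl⟩ := QuotientGroup.mk_surjective v
  exact Units.ext (by rw [← ev_coe, ← ev_coe, h])

/-- Only the trivial character is invariant under `n`. -/
theorem eq_one_of_fixed {l : Lin S} (h : ∀ x : (S : Subgroup G), ev l (n * x * n⁻¹) = ev l (x : G)) :
    l = 1 := by
  have hmem : ∀ x : (S : Subgroup G), n * (x : G) * n⁻¹ ∈ (S : Subgroup G) := fun x => by
    simpa using conj_mem C x.2 1
  let q : ↥(S : Subgroup G) →* ↥(S : Subgroup G) ⧸ center (S : Subgroup G) := QuotientGroup.mk' _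
  -- `x ↦ x⁻¹ (n x n⁻¹)` as an endomorphism of the abelian quotient
  let D : ↥(S : Subgroup G) →* ↥(S : Subgroup G) ⧸ center (S : Subgroup G) :=
    { toFun := fun x => q x⁻¹ * q ⟨_, hmem x⟩
      map_one' := by
        rw [inv_one, map_one, one_mul]
        exact (congrArg q (Subtype.ext (show n * 1 * n⁻¹ = 1 by group))).trans (map_one q)
      map_mul' := fun x y => by
        rw [show (⟨_, hmem (x * y)⟩ : (S : Subgroup G)) = ⟨_, hmem x⟩ * ⟨_, hmem y⟩ from
          Subtype.ext (show n * ((x : G) * y) * n⁻¹ = n * x * n⁻¹ * (n * y * n⁻¹) by group),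
          mul_inv_rev, map_mul, map_mul]
        exact K.quotient_shuffle _ _ _ _ }
  have hD : ∀ x, D x = q (x⁻¹ * ⟨_, hmem x⟩) := fun x => (map_mul q _ _).symm
  have hker : ∀ x, D x = 1 → InZ S (x : G) := fun x hx => by
    refine K.inZ_of_coset C x.2 ?_
    rw [hD] at hx
    simpa using K.inZ_of_mem_center ((QuotientGroup.eq_one_iff _).1 hx)
  have hle : center (S : Subgroup G) ≤ D.ker := fun x hx => by
    rw [MonoidHom.mem_ker, hD]
    refine (QuotientGroup.eq_one_iff _).2 (K.mem_center_of_inZ ?_)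
    have hxZ := K.inZ_of_mem_center hx
    push_cast
    exact K.inZ_mul (K.inZ_inv hxZ) (by simpa using conj_inZ C hxZ 1)
  have hinj : Function.Injective (QuotientGroup.lift _ D hle) := by
    rw [injective_iff_map_eq_one]
    intro v hv
    obtain ⟨x, rfl⟩ := QuotientGroup.mk_surjective v
    exact (QuotientGroup.eq_one_iff x).2 (K.mem_center_of_inZ (hker x hv))
  refine MonoidHom.ext fun v => ?_
  obtain ⟨u, rfl⟩ := (Finite.injective_iff_surjective.1 hinj) v
  obtain ⟨x, rfl⟩ := QuotientGroup.mk_surjective u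
  refine Units.ext ?_
  rw [MonoidHom.one_apply, Units.val_one, QuotientGroup.lift_mk, hD]
  show ((l (QuotientGroup.mk _) : ℂˣ) : ℂ) = 1
  rw [← ev_coe]
  push_cast
  rw [ev_mul l (inv_mem x.2) (hmem x), h, ← ev_mul l (inv_mem x.2) x.2, inv_mul_cancel, ev_one]

theorem twist_injective {l : Lin S} (hl : l ≠ 1) {i j : ℕ} (hi : i < 3) (hj : j < 3)
    (e : twist C l i = twist C l j) : i = j := by
  by_contra hne
  apply hl
  have key : ∀ x : (S : Subgroup G),
      ev l (n ^ i * x * (n ^ i)⁻¹) = ev l (n ^ j * x * (n ^ j)⁻¹) := fun x => by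
    rw [← twist_spec C l i x, e, twist_spec C l j x]
  have h3 : ∀ x : (S : Subgroup G), ev l (n ^ 3 * x * (n ^ 3)⁻¹) = ev l (x : G) := fun x =>
    K.ev_coset l x.2 (K.pow_three_coset C x.2)
  refine K.eq_one_of_fixed C fun x => ?_
  have hnx : n * (x : G) * n⁻¹ ∈ (S : Subgroup G) := by simpa using conj_mem C x.2 1
  have h0 := key x
  have h1 := key ⟨_, hnx⟩
  have e21 : n * (n * (x : G) * n⁻¹) * n⁻¹ = n ^ 2 * x * (n ^ 2)⁻¹ := by rw [pow_two]; group
  have e32 : n ^ 2 * (n * (x : G) * n⁻¹) * (n ^ 2)⁻¹ = n ^ 3 * x * (n ^ 3)⁻¹ := by group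
  simp only at h1
  interval_cases i <;> interval_cases j <;> first | omega |
    (simp only [pow_zero, one_mul, inv_one, mul_one, pow_one, e21, e32, h3] at h0 h1
     first
     | exact h0.symm
     | exact h0
     | exact h1
     | exact h1.symm
     | exact h0.trans h1
     | exact h0.symm.trans h1.symm)

omit C in
theorem ev_mul_char (l m : Lin S) (x : (S : Subgroup G)) :
    ev (l * m) (x : G) = ev l (x : G) * ev m (x : G) := by
  rw [ev_coe, ev_coe, ev_coe, MonoidHom.mul_apply, Units.val_mul]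

omit C in
theorem sum_ev (l : Lin S) :
    ∑ x : (S : Subgroup G), ev l (x : G) = if l = 1 then 64 else 0 := by
  split_ifs with h
  · subst h
    rw [Finset.sum_congr rfl (g := fun _ => (1 : ℂ)) fun x _ => by rw [ev_coe]; simp, Finset.sum_const,
      Finset.card_univ, ← Nat.card_eq_fintype_card, K.shape.card]
    norm_num
  · simp only [ev_coe]
    exact sum_hom_units_eq_zero (((Units.coeHom ℂ).comp l).comp (QuotientGroup.mk' _)) fun e => h (by
      refine MonoidHom.ext fun v => ?_
      obtain ⟨x, rfl⟩ := QuotientGroup.mk_surjective v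
      exact Units.ext (by simpa using DFunLike.congr_fun e x))

/-- The inner products of the lifts. -/
theorem inner_lift_lift {M : Ideal AlgInt} [M.IsPrime] (l m : Lin S) (hl : l ≠ 1) (hm : m ≠ 1) :
    classInner (lift S (prof n l)) (lift S (prof n m)) =
      3 + ((Finset.univ.filter fun j : Fin 3 => l = twist C m j).card : ℂ) := by
  rw [K.classInner_lift C (K.prof_inv C l) (K.prof_one C l) (isClassFunction_lift (K.prof_inv C m))]
  have hsec : ∀ y : (S : Subgroup G), ((Nat.card (oddCent (y : G)) : ℂ)⁻¹ *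
      conj (∑ u : oddCent (y : G), lift S (prof n m) ((y : G) * (u : G)))) = prof n m (y : G) := by
    intro y
    rw [Finset.sum_congr rfl (g := fun _ => prof n m (y : G)) fun u _ =>
      lift_eq (K.prof_inv C m) y.2 (w := 1) (by
        simpa using K.pPart_of_oddCent y.2 u.2),
      Finset.sum_const, Finset.card_univ, nsmul_eq_mul, Nat.card_eq_fintype_card, map_mul, map_natCast,
      inv_mul_cancel_left₀ (Nat.cast_ne_zero.2 Fintype.card_ne_zero)]
    unfold prof
    rw [map_sum]
    refine Finset.sum_congr rfl fun i _ => ?_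
    rw [map_sub, map_one, K.ev_real m ⟨_, conj_mem C y.2 i⟩]
  simp only [hsec]
  have h1 : ∀ i : Fin 3, ∑ y : (S : Subgroup G),
      (1 - ev l (n ^ (i : ℕ) * y * (n ^ (i : ℕ))⁻¹)) * prof n m (y : G) =
      ∑ y : (S : Subgroup G), (1 - ev l (y : G)) * prof n m (y : G) := fun i => by
    rw [← K.sum_conj C (fun t => (1 - ev l t) * prof n m t) i]
    exact Finset.sum_congr rfl fun y _ => by rw [K.prof_shift C m y.2]
  have h2 : ∀ j : Fin 3, ∑ y : (S : Subgroup G),
      (1 - ev l (y : G)) * (1 - ev m (n ^ (j : ℕ) * y * (n ^ (j : ℕ))⁻¹)) =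
      64 + if l = twist C m j then 64 else 0 := by
    intro j
    have hmj : twist C m (j : ℕ) ≠ 1 := fun e => hm (K.ext_of_ev fun x => by
      have hmem : (n ^ (j : ℕ))⁻¹ * x * n ^ (j : ℕ) ∈ (S : Subgroup G) := by
        have := (mem_normalizer_iff.1 (inv_mem (pow_mem C.norm (j : ℕ))) (x : G)).1 x.2
        rwa [inv_inv] at this
      have h := twist_spec C m j ⟨_, hmem⟩
      rw [e, show n ^ (j : ℕ) * ((n ^ (j : ℕ))⁻¹ * x * n ^ (j : ℕ)) * (n ^ (j : ℕ))⁻¹ = x by group] at h
      rw [← h, ev_coe, ev_coe]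
      rfl)
    have hiff : l * twist C m (j : ℕ) = 1 ↔ l = twist C m j := by
      have hsq : twist C m (j : ℕ) * twist C m (j : ℕ) = 1 := by
        refine MonoidHom.ext fun v => ?_
        rw [MonoidHom.mul_apply, ← map_mul, K.quotient_sq, map_one, MonoidHom.one_apply]
      constructor
      · intro e
        refine MonoidHom.ext fun v => ?_
        have e1 := DFunLike.congr_fun e v
        have e2 := DFunLike.congr_fun hsq v
        rw [MonoidHom.mul_apply, MonoidHom.one_apply] at e1 e2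
        exact mul_right_cancel (e1.trans e2.symm)
      · intro e; rw [e, hsq]
    rw [Finset.sum_congr rfl fun (y : ↥(S : Subgroup G)) _ =>
      show (1 - ev l (y : G)) * (1 - ev m (n ^ (j : ℕ) * y * (n ^ (j : ℕ))⁻¹)) =
        1 - ev l (y : G) - ev (twist C m j) (y : G) + ev (l * twist C m j) (y : G) by
        rw [K.ev_mul_char, twist_spec C m j y]; ring,
      Finset.sum_add_distrib, Finset.sum_sub_distrib, Finset.sum_sub_distrib, K.sum_ev, K.sum_ev,
      K.sum_ev, if_neg hl, if_neg hmj, Finset.sum_const, Finset.card_univ, ← Nat.card_eq_fintype_card,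
      K.shape.card]
    simp only [hiff]
    norm_num
  have e1 : ∑ y : (S : Subgroup G), prof n l (y : G) * prof n m (y : G) =
      3 * ∑ y : (S : Subgroup G), (1 - ev l (y : G)) * prof n m (y : G) := by
    conv_lhs => enter [2, y]; rw [prof, Finset.sum_mul]
    rw [Finset.sum_comm, Finset.sum_congr rfl fun i _ => h1 i, Finset.sum_const, Finset.card_univ,
      Fintype.card_fin, nsmul_eq_mul]
    norm_num
  have e2 : ∑ y : (S : Subgroup G), (1 - ev l (y : G)) * prof n m (y : G) =
      192 + 64 * ((Finset.univ.filter fun j : Fin 3 => l = twist C m j).card : ℂ) := by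
    conv_lhs => enter [2, y]; rw [prof, Finset.mul_sum]
    rw [Finset.sum_comm, Finset.sum_congr rfl fun j _ => h2 j, Finset.sum_add_distrib, Finset.sum_ite,
      Finset.sum_const_zero, add_zero, Finset.sum_const, Finset.sum_const, Finset.card_univ,
      Fintype.card_fin, nsmul_eq_mul, nsmul_eq_mul]
    push_cast
    ring
  rw [e1, e2]
  ring

/-- The multiplicity of a linear character, as an integer. -/
theorem exists_mult (χ : IrrCharacter G) (l : Lin S) :
    ∃ k : ℤ, (64 : ℂ)⁻¹ * ∑ x : (S : Subgroup G), (χ : G → ℂ) (x : G) * ev l (x : G) = k := by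
  obtain ⟨k, hk⟩ := Char.IsChar.classInner_eq_natCast
    (Char.IsChar.restrict (S : Subgroup G) (Char.IsIrr.isCharacter χ.2))
    (Char.IsIrr.isCharacter (Char.isIrrCharacter_linear (l.comp (QuotientGroup.mk' _))))
  refine ⟨k, ?_⟩
  rw [Int.cast_natCast, ← hk, classInner, K.shape.card]
  push_cast
  congr 1
  refine Finset.sum_congr rfl fun x _ => ?_
  rw [show ((l.comp (QuotientGroup.mk' _)) x : ℂ) = ev l (x : G) from (ev_coe l x).symm, K.ev_real]

/-- The coefficient of an irreducible character in a lift. -/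
theorem inner_lift_irr {M : Ideal AlgInt} [M.IsPrime] (hM : IsPModular 2 M) (χ : IrrCharacter G)
    (l : Lin S) :
    classInner (lift S (prof n l)) (χ : G → ℂ) = if χ ∈ principalBlock M G then
      (64 : ℂ)⁻¹ * ∑ y : (S : Subgroup G), conj ((χ : G → ℂ) (y : G)) * (1 - ev l (y : G)) else 0 := by
  rw [K.classInner_lift C (K.prof_inv C l) (K.prof_one C l) (Char.IsIrr.isClassFunction χ.2)]
  have hterm : ∀ y : (S : Subgroup G), prof n l (y : G) * ((Nat.card (oddCent (y : G)) : ℂ)⁻¹ *
      conj (∑ u : oddCent (y : G), (χ : G → ℂ) ((y : G) * (u : G)))) =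
      if χ ∈ principalBlock M G then prof n l (y : G) * conj ((χ : G → ℂ) (y : G)) else 0 := by
    intro y
    by_cases h1 : (y : G) = 1
    · rw [h1, K.prof_one C l]; simp
    rw [K.sum_section hM χ y.2 h1]
    split_ifs
    · rw [map_mul, map_natCast, inv_mul_cancel_left₀ (Nat.cast_ne_zero.2 Nat.card_pos.ne')]
    · simp
  simp only [hterm]
  split_ifs
  · simp only [prof, Finset.sum_mul]
    rw [Finset.sum_comm, Finset.sum_congr rfl fun (i : Fin 3) _ => show ∑ y : (S : Subgroup G),
        (1 - ev l (n ^ (i : ℕ) * y * (n ^ (i : ℕ))⁻¹)) * conj ((χ : G → ℂ) (y : G)) =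
        ∑ y : (S : Subgroup G), conj ((χ : G → ℂ) (y : G)) * (1 - ev l (y : G)) by
      rw [← K.sum_conj C (fun t => conj ((χ : G → ℂ) t) * (1 - ev l t)) i]
      exact Finset.sum_congr rfl fun y _ => by
        rw [Char.IsIrr.isClassFunction χ.2 (y : G) (n ^ (i : ℕ))]; ring,
      Finset.sum_const, Finset.card_univ, Fintype.card_fin, nsmul_eq_mul]
    push_cast
    ring
  · simp

/-- Lifts vanish on products of two involutions. -/
theorem lift_mul_eq_zero (l : Lin S) {a b : G} (ha : a * a = 1) (hb : b * b = 1) :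
    lift S (prof n l) (a * b) = 0 := by
  obtain ⟨y, w, hy, hp⟩ := exists_conj_pPart S (a * b)
  rw [lift_eq (K.prof_inv C l) hy hp]
  by_cases hyz : InZ S y
  · exact K.prof_inZ C l hyz
  exfalso
  have h' := pPart_conj a hp
  have e : a * (a * b) * a⁻¹ = (a * b)⁻¹ := by
    rw [mul_inv_rev, inv_eq_of_mul_eq_one_right ha, inv_eq_of_mul_eq_one_right hb, ← mul_assoc a a b,
      ha, one_mul]
  rw [e] at h'
  have hinv : IsPPart 2 (a * b)⁻¹ (w * y * w⁻¹)⁻¹ := by
    obtain ⟨q, hq, hc, ⟨k, hk⟩, hqo⟩ := hp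
    exact ⟨q⁻¹, by rw [← hq, ← mul_inv_rev, hc.eq], hc.inv_inv, ⟨k, by rwa [orderOf_inv]⟩,
      by rwa [orderOf_inv]⟩
  have he := pPart_unique h' hinv
  refine K.not_inverted hy hyz (a := w⁻¹ * a * w) ?_ ?_
  · rw [show w⁻¹ * a * w * (w⁻¹ * a * w) = w⁻¹ * (a * a) * w by group, ha, mul_one, inv_mul_cancel]
  · calc w⁻¹ * a * w * y * (w⁻¹ * a * w)⁻¹ = w⁻¹ * (a * (w * y * w⁻¹) * a⁻¹) * w := by group
      _ = w⁻¹ * (w * y * w⁻¹)⁻¹ * w := by rw [he]
      _ = y⁻¹ := by group

omit C in
theorem exists_inZ_involution : ∃ z, InZ S z ∧ orderOf z = 2 := by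
  have : Nontrivial (center (S : Subgroup G)) :=
    Finite.one_lt_card_iff_nontrivial.1 (by rw [K.shape.card_center]; norm_num)
  obtain ⟨⟨⟨a, haS⟩, ha⟩, hne⟩ := exists_ne (1 : center (S : Subgroup G))
  have hz := K.inZ_of_mem_center (x := ⟨a, haS⟩) ha
  exact ⟨a, hz, Signalizer.orderOf_eq_two_of (fun e => hne (Subtype.ext (Subtype.ext e))) hz.2⟩

omit C in
theorem card_lin : Nat.card (Lin S) = 16 := by
  letI : CommGroup (↥(S : Subgroup G) ⧸ center (S : Subgroup G)) :=
    { (inferInstance : Group (↥(S : Subgroup G) ⧸ center (S : Subgroup G))) with mul_comm := K.quotient_comm }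
  obtain ⟨e⟩ := CommGroup.monoidHom_mulEquiv_of_hasEnoughRootsOfUnity
    (↥(S : Subgroup G) ⧸ center (S : Subgroup G)) ℂ
  refine (Nat.card_congr e.toEquiv).trans ?_
  have h := card_eq_card_quotient_mul_card_subgroup (center (S : Subgroup G))
  rw [K.shape.card, K.shape.card_center] at h
  omega

omit C in
theorem exists_lin_ne {x : (S : Subgroup G)} (hx : ¬ InZ S (x : G)) : ∃ l : Lin S, ev l (x : G) ≠ 1 := by
  letI : CommGroup (↥(S : Subgroup G) ⧸ center (S : Subgroup G)) :=
    { (inferInstance : Group (↥(S : Subgroup G) ⧸ center (S : Subgroup G))) with mul_comm := K.quotient_comm }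
  obtain ⟨l, hl⟩ := CommGroup.exists_apply_ne_one_of_hasEnoughRootsOfUnity
    (↥(S : Subgroup G) ⧸ center (S : Subgroup G)) ℂ (a := QuotientGroup.mk x)
    (fun e => hx (K.inZ_of_mem_center ((QuotientGroup.eq_one_iff x).1 e)))
  exact ⟨l, fun e => hl (Units.ext (by rw [← ev_coe, e]; rfl))⟩

omit C in
/-- The sum over the centre. -/
theorem sum_inZ {T : Subgroup G} (hT : ∀ x, InZ S x → x ∈ T) (hTS : T ≤ (S : Subgroup G)) (f : G → ℂ) {v : ℂ}
    (hv : ∀ c, InZ S c → c ≠ 1 → f c = v) :
    ∑ y ∈ Finset.univ.filter (fun y : T => InZ S (y : G)), f y = f 1 + 3 * v := by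
  have hcard : (Finset.univ.filter (fun y : T => InZ S (y : G))).card = 4 := by
    rw [← K.shape.card_center, ← Fintype.card_subtype, ← Nat.card_eq_fintype_card]
    exact Nat.card_congr
      { toFun := fun y => ⟨⟨(y.1 : G), hTS y.1.2⟩, K.mem_center_of_inZ (x := ⟨(y.1 : G), hTS y.1.2⟩) y.2⟩
        invFun := fun c => ⟨⟨((c : (S : Subgroup G)) : G), hT _ (K.inZ_of_mem_center c.2)⟩,
          K.inZ_of_mem_center c.2⟩
        left_inv := fun _ => rfl
        right_inv := fun _ => rfl }
  have h1 : (1 : T) ∈ Finset.univ.filter (fun y : T => InZ S (y : G)) :=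
    Finset.mem_filter.2 ⟨Finset.mem_univ _, inZ_one⟩
  rw [← Finset.add_sum_erase _ _ h1, Finset.sum_congr rfl (g := fun _ => v) fun y hy => by
    obtain ⟨hy1, hy2⟩ := Finset.mem_erase.1 hy
    exact hv y (Finset.mem_filter.1 hy2).2 fun e => hy1 (Subtype.ext e)]
  rw [Finset.sum_const, Finset.card_erase_of_mem h1, hcard, OneMemClass.coe_one]
  norm_num

/-- A character correlated in the same way with every lift has signed degree one modulo four. -/
theorem signed_degree {χ : IrrCharacter G} {e : ℤ} (he : e ^ 2 = 1)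
    (h : ∀ l : Lin S, l ≠ 1 →
      (64 : ℂ)⁻¹ * ∑ y : (S : Subgroup G), conj ((χ : G → ℂ) (y : G)) * (1 - ev l (y : G)) = e)
    {z : G} (hz : InZ S z) (hzo : orderOf z = 2) :
    ∃ d x : ℤ, ((e * d : ℤ) : ZMod 4) = 1 ∧ d ≠ 0 ∧ (χ : G → ℂ) 1 = d ∧ (χ : G → ℂ) z = x := by
  choose k hk using fun l : Lin S => exists_mult K C χ l
  have hconst : ∀ c, InZ S c → c ≠ 1 → (χ : G → ℂ) c = (χ : G → ℂ) z := by
    intro c hc h1
    obtain ⟨i, -, hi⟩ := C.trans z c hz hzo hc (Signalizer.orderOf_eq_two_of h1 hc.2)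
    rw [← hi, Char.IsIrr.isClassFunction χ.2]
  have hdiff : ∀ l : Lin S, l ≠ 1 → k l = k 1 - e := by
    intro l hl
    have h' := congrArg conj (h l hl)
    rw [map_mul, map_sum, map_inv₀, map_ofNat, map_intCast] at h'
    rw [Finset.sum_congr rfl (g := fun y : (S : Subgroup G) =>
        (χ : G → ℂ) (y : G) * ev (1 : Lin S) (y : G) - (χ : G → ℂ) (y : G) * ev l (y : G)) fun y _ => by
      rw [map_mul, Complex.conj_conj, map_sub, map_one, K.ev_real,
        show ev (1 : Lin S) (y : G) = 1 by rw [ev_coe]; rfl]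
      ring, Finset.sum_sub_distrib, mul_sub, hk, hk] at h'
    have h'' : k 1 - k l = e := by exact_mod_cast h'
    omega
  -- the sum over all linear characters
  have hL : (χ : G → ℂ) 1 + 3 * (χ : G → ℂ) z = 4 * (16 * (k 1 : ℂ) - 15 * e) := by
    have : Fintype (Lin S) := Fintype.ofFinite _
    have hcardL : Fintype.card (Lin S) = 16 := by rw [← Nat.card_eq_fintype_card, K.card_lin]
    have h1 : ∑ l : Lin S, (k l : ℂ) = 16 * (k 1 : ℂ) - 15 * e := by
      rw [← Finset.add_sum_erase _ _ (Finset.mem_univ (1 : Lin S)),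
        Finset.sum_congr rfl (g := fun _ => ((k 1 : ℂ) - e)) fun l hl => by
          rw [hdiff l (Finset.ne_of_mem_erase hl)]; push_cast; rfl,
        Finset.sum_const, Finset.card_erase_of_mem (Finset.mem_univ _), Finset.card_univ, hcardL,
        nsmul_eq_mul]
      push_cast
      ring
    have h2 : ∀ y : (S : Subgroup G), ∑ l : Lin S, ev l (y : G) = if InZ S (y : G) then 16 else 0 := by
      intro y
      split_ifs with hy
      · rw [Finset.sum_congr rfl fun l _ => K.ev_inZ l hy, Finset.sum_const, Finset.card_univ, hcardL]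
        norm_num
      · obtain ⟨m, hm⟩ := K.exists_lin_ne hy
        have e1 : ev m (y : G) * ∑ l : Lin S, ev l (y : G) = ∑ l : Lin S, ev l (y : G) := by
          rw [Finset.mul_sum]
          refine Fintype.sum_bijective (fun l => m * l) ⟨fun a b hab => ?_, fun a => ⟨m * a, ?_⟩⟩ _ _
            fun l => (K.ev_mul_char m l y).symm
          · refine MonoidHom.ext fun v => ?_
            exact mul_left_cancel (a := m v) (by simpa using DFunLike.congr_fun hab v)
          · refine MonoidHom.ext fun v => ?_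
            show m v * (m v * a v) = a v
            rw [← mul_assoc, ← map_mul, K.quotient_sq, map_one, one_mul]
        by_contra hne
        exact hm ((mul_eq_right₀ hne).1 e1)
    rw [← h1, ← Finset.sum_congr rfl fun l _ => hk l, ← Finset.mul_sum, Finset.sum_comm]
    rw [Finset.sum_congr rfl fun y _ => by rw [← Finset.mul_sum, h2, mul_ite, mul_zero],
      Finset.sum_ite, Finset.sum_const_zero, add_zero, ← Finset.sum_mul,
      K.sum_inZ (fun x hx => hx.1) le_rfl (χ : G → ℂ) hconst]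
    ring
  -- an abelian subgroup of order sixteen
  obtain ⟨A, hAS, hA16, hAZ, hAc⟩ := K.exists_abelian
  let _ : CommGroup A := { (inferInstance : Group A) with
    mul_comm := fun a b => Subtype.ext (hAc a a.2 b b.2) }
  obtain ⟨μ, hμ⟩ := CommGroup.exists_apply_ne_one_of_hasEnoughRootsOfUnity A ℂ
    (a := ⟨z, hAZ z hz⟩) (fun e => Signalizer.involution_ne_one hzo (congrArg Subtype.val e))
  obtain ⟨k', hk'⟩ := Char.IsChar.classInner_eq_natCast
    (Char.IsChar.restrict A (Char.IsIrr.isCharacter χ.2))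
    (Char.IsIrr.isCharacter (Char.isIrrCharacter_linear μ))
  have hK' : (χ : G → ℂ) 1 - (χ : G → ℂ) z = 16 * (k' : ℂ) := by
    have hμz : conj ((μ ⟨z, hAZ z hz⟩ : ℂˣ) : ℂ) ≠ 1 := fun e => hμ (Units.ext (by
      rw [← Complex.conj_conj ((μ ⟨z, hAZ z hz⟩ : ℂˣ) : ℂ), e, map_one]; rfl))
    -- a sum multiplied by `conj μ z ≠ 1` vanishes
    have hvan : ∀ (P : Finset A) (f : A → ℂ), (∀ a, a ∈ P ↔ a * ⟨z, hAZ z hz⟩ ∈ P) →
        (∀ a ∈ P, f (a * ⟨z, hAZ z hz⟩) = f a) →
        ∑ a ∈ P, f a * conj ((μ a : ℂˣ) : ℂ) = 0 := by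
      intro P f hP hf
      have e1 : ∑ a ∈ P, f a * conj ((μ a : ℂˣ) : ℂ) =
          conj ((μ ⟨z, hAZ z hz⟩ : ℂˣ) : ℂ) * ∑ a ∈ P, f a * conj ((μ a : ℂˣ) : ℂ) := by
        conv_lhs => rw [← Finset.sum_equiv (Equiv.mulRight (⟨z, hAZ z hz⟩ : A)) (s := P)
          (f := fun a => f (a * ⟨z, hAZ z hz⟩) * conj ((μ (a * ⟨z, hAZ z hz⟩) : ℂˣ) : ℂ))
          (g := fun a => f a * conj ((μ a : ℂˣ) : ℂ)) (by intro a; exact hP a) (fun a _ => rfl)]
        rw [Finset.mul_sum]
        refine Finset.sum_congr rfl fun a ha => ?_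
        rw [hf a ha, map_mul, Units.val_mul, map_mul]
        ring
      by_contra hne
      exact hμz ((mul_eq_right₀ hne).1 e1.symm)
    have hzmem : ∀ a : A, InZ S (a : G) ↔ InZ S ((a : G) * z) := fun a =>
      ⟨fun ha => K.inZ_mul ha hz, fun ha => by
        have := K.inZ_mul ha hz
        rwa [mul_assoc, hz.2, mul_one] at this⟩
    have hout : ∑ a ∈ Finset.univ.filter (fun a : A => ¬ InZ S (a : G)),
        (χ : G → ℂ) (a : G) * conj ((μ a : ℂˣ) : ℂ) = 0 := by
      refine hvan _ (fun a => (χ : G → ℂ) (a : G)) (fun a => ?_) fun a ha => ?_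
      · simp only [Finset.mem_filter, Finset.mem_univ, true_and, Subgroup.coe_mul]
        exact not_congr (hzmem a)
      · obtain ⟨g, -, hg⟩ := K.conj_eq_mul (hAS a.2) (Finset.mem_filter.1 ha).2 hz
        show (χ : G → ℂ) ((a : G) * z) = _
        rw [← hg, Char.IsIrr.isClassFunction χ.2]
    have hin : ∑ a ∈ Finset.univ.filter (fun a : A => InZ S (a : G)), conj ((μ a : ℂˣ) : ℂ) = 0 := by
      have := hvan (Finset.univ.filter (fun a : A => InZ S (a : G))) (fun _ => 1) (fun a => by
        simp only [Finset.mem_filter, Finset.mem_univ, true_and, Subgroup.coe_mul]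
        exact hzmem a) (fun _ _ => rfl)
      simpa using this
    have h16 : classInner (fun a : A => (χ : G → ℂ) (a : G)) (fun a : A => ((μ a : ℂˣ) : ℂ)) = k' := hk'
    rw [classInner, hA16, ← Finset.sum_filter_add_sum_filter_not Finset.univ
      (fun a : A => InZ S (a : G)), hout, add_zero] at h16
    have h1 : (1 : A) ∈ Finset.univ.filter (fun a : A => InZ S (a : G)) :=
      Finset.mem_filter.2 ⟨Finset.mem_univ _, inZ_one⟩
    rw [← Finset.add_sum_erase _ _ h1] at h16 hin
    rw [Finset.sum_congr rfl (g := fun a : A => (χ : G → ℂ) z * conj ((μ a : ℂˣ) : ℂ)) fun a ha => by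
      obtain ⟨ha1, ha2⟩ := Finset.mem_erase.1 ha
      rw [hconst a (Finset.mem_filter.1 ha2).2 fun e => ha1 (Subtype.ext e)], ← Finset.mul_sum] at h16
    rw [map_one, Units.val_one, map_one] at h16 hin
    rw [OneMemClass.coe_one, mul_one, eq_neg_of_add_eq_zero_right hin] at h16
    push_cast at h16
    linear_combination 16 * h16
  obtain ⟨d, hd0, hd⟩ := Char.IsIrr.exists_degree χ.2
  refine ⟨d, (d : ℤ) - 16 * k', ?_, by exact_mod_cast hd0.ne', by rw [hd, Int.cast_natCast], ?_⟩
  · have h4 : (d : ℤ) = 16 * k 1 - 15 * e + 12 * k' := by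
      have : 4 * (d : ℂ) = 4 * (16 * (k 1 : ℂ) - 15 * e + 12 * k') := by
        rw [← hd]; linear_combination hL + 3 * hK'
      have h5 := mul_left_cancel₀ (by norm_num : (4 : ℂ) ≠ 0) this
      exact_mod_cast h5
    have he' : (e : ZMod 4) * e = 1 := by
      rw [← pow_two]
      exact_mod_cast congrArg (fun t : ℤ => (t : ZMod 4)) he
    rw [h4]
    push_cast
    rw [show (16 : ZMod 4) = 0 by decide, show (15 : ZMod 4) = -1 by decide,
      show (12 : ZMod 4) = 0 by decide]
    linear_combination he'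
  · push_cast
    rw [← hd]
    linear_combination -hK'

/-- The Sylow 2-subgroup cannot have this shape in a simple group. -/
theorem false_of_cycle [IsSimpleGroup G] : False := by
  have : Fact (Nat.Prime 2) := ⟨Nat.prime_two⟩
  obtain ⟨M, hM⟩ := ZStar.exists_isPModular Nat.prime_two
  have := hM.2.1.isPrime
  have : Fintype (IrrCharacter G) := Fintype.ofFinite _
  have : Fintype (Lin S) := Fintype.ofFinite _
  obtain ⟨z, hz, hzo⟩ := K.exists_inZ_involution
  -- integral coefficients
  have hint : ∀ (l : Lin S) (χ : IrrCharacter G), ∃ w : ℤ,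
      classInner (lift S (prof n l)) (χ : G → ℂ) = w := by
    intro l χ
    rw [K.inner_lift_irr C hM χ l]
    split_ifs
    · obtain ⟨a, ha⟩ := exists_mult K C χ 1
      obtain ⟨b, hb⟩ := exists_mult K C χ l
      refine ⟨a - b, ?_⟩
      have h' : conj ((64 : ℂ)⁻¹ * ∑ y : (S : Subgroup G),
          conj ((χ : G → ℂ) (y : G)) * (1 - ev l (y : G))) = ((a - b : ℤ) : ℂ) := by
        push_cast
        rw [← ha, ← hb, ← mul_sub, ← Finset.sum_sub_distrib, map_mul, map_sum, map_inv₀, map_ofNat]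
        congr 1
        refine Finset.sum_congr rfl fun y _ => ?_
        rw [map_mul, Complex.conj_conj, map_sub, map_one, K.ev_real,
          show ev (1 : Lin S) (y : G) = 1 by rw [ev_coe]; rfl]
        ring
      have h2 := congrArg conj h'
      rwa [Complex.conj_conj, map_intCast] at h2
    · exact ⟨0, Int.cast_zero.symm⟩
  choose w hw using hint
  have hexp : ∀ (l : Lin S) (g : G), lift S (prof n l) g = ∑ χ, (w l χ : ℂ) * (χ : G → ℂ) g := by
    intro l g
    rw [Char.classFunction_apply_eq_sum (isClassFunction_lift (K.prof_inv C l)) g]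
    simp only [hw]
  have hinner : ∀ l m : Lin S,
      classInner (lift S (prof n l)) (lift S (prof n m)) = ∑ χ, (w l χ : ℂ) * (w m χ : ℂ) := by
    intro l m
    rw [show lift S (prof n m) = ∑ χ : IrrCharacter G, (w m χ : ℂ) • (χ : G → ℂ) from
      funext fun g => by simp [hexp m g], Char.classInner_sum_right]
    refine Finset.sum_congr rfl fun χ _ => ?_
    rw [Char.classInner_smul_right, hw, map_intCast, mul_comm]
  have hcount : ∀ l m : Lin S, l ≠ 1 → m ≠ 1 → ∃ c : ℕ, c ≤ 1 ∧
      ∑ χ, w l χ * w m χ = 3 + c ∧ (c = 1 ↔ ∃ j : Fin 3, l = twist C m j) := by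
    intro l m hl hm
    refine ⟨(Finset.univ.filter fun j : Fin 3 => l = twist C m j).card, ?_, ?_, ?_⟩
    · refine Finset.card_le_one.2 fun i hi j hj => Fin.ext (K.twist_injective C hm i.2 j.2 ?_)
      rw [← (Finset.mem_filter.1 hi).2, ← (Finset.mem_filter.1 hj).2]
    · have h := (hinner l m).symm.trans (K.inner_lift_lift C (M := M) l m hl hm)
      exact_mod_cast h
    · constructor
      · intro h1
        obtain ⟨j, hj⟩ := Finset.card_eq_one.1 h1
        exact ⟨j, (Finset.mem_filter.1 (hj.symm.subset (Finset.mem_singleton_self j))).2⟩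
      · rintro ⟨j, hj⟩
        refine le_antisymm (Finset.card_le_one.2 fun i hi i' hi' =>
          Fin.ext (K.twist_injective C hm i.2 i'.2 ?_)) (Finset.card_pos.2 ⟨j, by simp [hj]⟩)
        rw [← (Finset.mem_filter.1 hi).2, ← (Finset.mem_filter.1 hi').2]
  have hzero : ∀ l : Lin S, twist C l 0 = l := fun l => K.ext_of_ev fun x => by
    rw [twist_spec C l 0 x]; simp
  have hnorm : ∀ l : Lin S, l ≠ 1 → ∑ χ, w l χ ^ 2 = 4 := by
    intro l hl
    obtain ⟨c, -, hc, hc'⟩ := hcount l l hl hl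
    rw [hc'.2 ⟨0, (hzero l).symm⟩] at hc
    simpa [pow_two] using hc
  set nt : Finset (Lin S) := Finset.univ.erase 1 with hnt
  set W : Finset (IrrCharacter G → ℤ) := nt.image w with hW
  have h5 : 5 ≤ W.card := by
    have h15 : nt.card = 15 := by
      rw [hnt, Finset.card_erase_of_mem (Finset.mem_univ _), Finset.card_univ, ← Nat.card_eq_fintype_card,
        K.card_lin]
    have hfib : ∀ v ∈ W, (nt.filter fun l => w l = v).card ≤ 3 := by
      intro v hv
      obtain ⟨m, hm, rfl⟩ := Finset.mem_image.1 hv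
      refine le_trans (Finset.card_le_card (t := Finset.univ.image fun j : Fin 3 => twist C m j) ?_)
        (Finset.card_image_le.trans (by simp))
      intro l hl
      obtain ⟨hl, hlm⟩ := Finset.mem_filter.1 hl
      obtain ⟨c, -, hc, hc'⟩ := hcount l m (Finset.ne_of_mem_erase hl) (Finset.ne_of_mem_erase hm)
      have h4 : ∑ χ, w l χ * w m χ = 4 := by
        rw [hlm]; simpa [pow_two] using hnorm m (Finset.ne_of_mem_erase hm)
      obtain ⟨j, hj⟩ := hc'.1 (by omega)
      exact Finset.mem_image.2 ⟨j, Finset.mem_univ _, hj.symm⟩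
    have := Finset.card_le_mul_card_image nt 3 hfib
    rw [h15, ← hW] at this
    omega
  obtain ⟨l₀, hl₀⟩ : nt.Nonempty := by
    obtain ⟨v, hv⟩ := Finset.card_pos.1 (show 0 < W.card by omega)
    obtain ⟨l, hl, -⟩ := Finset.mem_image.1 hv
    exact ⟨l, hl⟩
  have hone : ∀ l ∈ nt, w l (Char.trivChar G) = 1 := by
    intro l hl
    have h : ((w l (Char.trivChar G) : ℤ) : ℂ) = 1 := by
      rw [← hw, K.inner_lift_irr C hM, if_pos Blocks.trivChar_mem_principalBlock,
        Finset.sum_congr rfl fun y _ => by rw [Char.trivChar_apply, map_one, one_mul],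
        Finset.sum_sub_distrib, K.sum_ev, if_neg (Finset.ne_of_mem_erase hl), Finset.sum_const,
        Finset.card_univ, ← Nat.card_eq_fintype_card, K.shape.card]
      norm_num
    exact_mod_cast h
  obtain ⟨A, B, C', hAB, hAC, hBC, hAo, hBo, hCo, hA2, hB2, hC2, hsupp, hagree⟩ :=
    star (o := Char.trivChar G) h5
      (fun v hv => by obtain ⟨l, hl, rfl⟩ := Finset.mem_image.1 hv; exact hone l hl)
      (fun v hv => by obtain ⟨l, hl, rfl⟩ := Finset.mem_image.1 hv; exact hnorm l (Finset.ne_of_mem_erase hl))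
      (fun v hv v' hv' hne => by
        obtain ⟨l, hl, rfl⟩ := Finset.mem_image.1 hv
        obtain ⟨m, hm, rfl⟩ := Finset.mem_image.1 hv'
        obtain ⟨c, hc1, hc, -⟩ := hcount l m (Finset.ne_of_mem_erase hl) (Finset.ne_of_mem_erase hm)
        interval_cases c
        · simpa using hc
        exfalso
        refine hne (funext fun χ => ?_)
        have e : ∑ χ, (w l χ - w m χ) ^ 2 = 0 := by
          rw [Finset.sum_congr rfl (fun χ _ => show (w l χ - w m χ) ^ 2 =
              w l χ ^ 2 + w m χ ^ 2 - 2 * (w l χ * w m χ) by ring), Finset.sum_sub_distrib,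
            Finset.sum_add_distrib, ← Finset.mul_sum, hnorm l (Finset.ne_of_mem_erase hl),
            hnorm m (Finset.ne_of_mem_erase hm), hc]
          norm_num
        exact sub_eq_zero.1 (pow_eq_zero_iff two_ne_zero |>.1
          ((Finset.sum_eq_zero_iff_of_nonneg fun _ _ => sq_nonneg _).1 e χ (Finset.mem_univ _))))
      (Finset.mem_image_of_mem w hl₀)
  -- the signed degrees
  have hsign : ∀ χ : IrrCharacter G, (w l₀ χ) ^ 2 = 1 → (∀ l ∈ nt, w l χ = w l₀ χ) →
      ∃ d x : ℤ, ((w l₀ χ * d : ℤ) : ZMod 4) = 1 ∧ d ≠ 0 ∧ (χ : G → ℂ) 1 = d ∧ (χ : G → ℂ) z = x := by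
    intro χ h2 hag
    refine K.signed_degree C h2 (fun l hl => ?_) hz hzo
    have hl' : l ∈ nt := Finset.mem_erase.2 ⟨hl, Finset.mem_univ _⟩
    have h := hw l χ
    rw [K.inner_lift_irr C hM, hag l hl'] at h
    split_ifs at h with hB
    · exact h
    · exfalso
      have h0 : w l₀ χ = 0 := by exact_mod_cast h.symm
      simp [h0] at h2
  obtain ⟨dA, xA, hdA, hdA0, hA1, hAz⟩ := hsign A hA2 fun l hl => (hagree _ (Finset.mem_image_of_mem w hl)).1
  obtain ⟨dB, xB, hdB, -, hB1, hBz⟩ := hsign B hB2 fun l hl => (hagree _ (Finset.mem_image_of_mem w hl)).2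
  have hfour : ∀ F : IrrCharacter G → ℂ, ∑ χ, (w l₀ χ : ℂ) * F χ =
      F (Char.trivChar G) + (w l₀ A : ℂ) * F A + (w l₀ B : ℂ) * F B + (w l₀ C' : ℂ) * F C' := by
    intro F
    rw [← Finset.sum_subset (Finset.subset_univ {Char.trivChar G, A, B, C'}) fun χ _ hχ => by
      simp only [Finset.mem_insert, Finset.mem_singleton, not_or] at hχ
      rw [hsupp χ hχ.1 hχ.2.1 hχ.2.2.1 hχ.2.2.2, Int.cast_zero, zero_mul],
      Finset.sum_insert (by simp [hAo.symm, hBo.symm, hCo.symm]),
      Finset.sum_insert (by simp [hAB, hAC]), Finset.sum_insert (by simp [hBC]),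
      Finset.sum_singleton, hone l₀ hl₀, Int.cast_one, one_mul]
    ring
  have hdeg : lift S (prof n l₀) 1 = 0 := by
    rw [lift_eq (K.prof_inv C l₀) (y := 1) (w := 1) (one_mem _) (by
      simpa using isPPart_one_of_isPRegular (p := 2) (g := (1 : G)) (by simp)), K.prof_one C]
  have hval : lift S (prof n l₀) z = 0 := by
    have h := K.lift_mul_eq_zero C l₀ (a := z) (b := 1) hz.2 (one_mul 1)
    rwa [mul_one] at h
  rw [hexp, hfour (fun χ => (χ : G → ℂ) 1), hA1, hB1, Char.trivChar_apply] at hdeg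
  rw [hexp, hfour (fun χ => (χ : G → ℂ) z), hAz, hBz, Char.trivChar_apply] at hval
  have hclass : ∑ χ, (w l₀ χ : ℂ) * ((χ : G → ℂ) z * (χ : G → ℂ) z / (χ : G → ℂ) 1) = 0 := by
    have h : ∑ g : G, lift S (prof n l₀) (z * (g * z * g⁻¹)) = 0 := Finset.sum_eq_zero fun g _ =>
      K.lift_mul_eq_zero C l₀ hz.2 (by
        rw [show g * z * g⁻¹ * (g * z * g⁻¹) = g * (z * z) * g⁻¹ by group, hz.2, mul_one, mul_inv_cancel])
    simp only [hexp] at h
    rw [Finset.sum_comm, Finset.sum_congr rfl fun χ _ => by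
      rw [← Finset.mul_sum, Blocks.sum_char_mul_conj]] at h
    have hG : (Nat.card G : ℂ) ≠ 0 := Nat.cast_ne_zero.2 Nat.card_pos.ne'
    refine (mul_eq_zero.1 (Eq.trans ?_ h)).resolve_left hG
    rw [Finset.mul_sum]
    exact Finset.sum_congr rfl fun χ _ => by ring
  rw [hfour (fun χ => (χ : G → ℂ) z * (χ : G → ℂ) z / (χ : G → ℂ) 1), hA1, hB1, hAz, hBz,
    Char.trivChar_apply, Char.trivChar_apply] at hclass
  set a : ℤ := w l₀ A * dA with ha
  set b : ℤ := w l₀ B * dB with hb
  set x : ℤ := w l₀ A * xA with hx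
  set y : ℤ := w l₀ B * xB with hy
  have hcd : (w l₀ C' : ℂ) * (C' : G → ℂ) 1 = -(1 + (a : ℂ) + b) := by
    rw [ha, hb]; push_cast; linear_combination hdeg
  have hcv : (w l₀ C' : ℂ) * (C' : G → ℂ) z = -(1 + (x : ℂ) + y) := by
    rw [hx, hy]; push_cast; linear_combination hval
  have hC1 : (C' : G → ℂ) 1 ≠ 0 := Char.IsIrr.apply_one_ne_zero C'.2
  have hCne : (w l₀ C' : ℂ) ≠ 0 := Int.cast_ne_zero.2 fun e => by simp [e] at hC2
  have hf : 1 + a + b ≠ 0 := fun e => by
    have : (1 + (a : ℂ) + b) = 0 := by exact_mod_cast e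
    rw [this, neg_zero] at hcd
    exact mul_ne_zero hCne hC1 hcd
  have hterm : ∀ (s : ℤ) (d v : ℂ), s ^ 2 = 1 → (s : ℂ) * (v * v / d) = ((s : ℂ) * v) ^ 2 / ((s : ℂ) * d) := by
    intro s d v hs
    have hs' : (s : ℂ) ^ 2 = 1 := by exact_mod_cast hs
    rcases sq_eq_one_iff.1 hs' with e | e
    · rw [e]; ring
    · rw [e, neg_one_mul, neg_one_mul, neg_one_mul, div_neg, neg_sq, pow_two]
  rw [hterm _ _ _ hA2, hterm _ _ _ hB2, hterm _ _ _ hC2, hcd, hcv] at hclass
  have hq : (1 : ℚ) + (x : ℚ) ^ 2 / a + (y : ℚ) ^ 2 / b - (1 + x + y : ℚ) ^ 2 / (1 + a + b) = 0 := by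
    have h : (((1 : ℚ) + (x : ℚ) ^ 2 / a + (y : ℚ) ^ 2 / b - (1 + x + y : ℚ) ^ 2 / (1 + a + b) : ℚ) : ℂ) = 0 := by
      push_cast [ha, hb, hx, hy] at hclass ⊢
      rw [div_neg, neg_sq] at hclass
      linear_combination hclass
    exact_mod_cast h
  obtain ⟨hxa, -⟩ := eq_of_relation hdA hdB hf hq
  have hxA : xA = dA := by
    have : w l₀ A ≠ 0 := fun e => by simp [e] at hA2
    exact mul_left_cancel₀ this hxa
  have hker : z ∈ CharDegree.kerSubgroup A := by
    rw [CharDegree.mem_kerSubgroup, hAz, hA1, hxA]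
  rcases (CharDegree.kerSubgroup_normal A).eq_bot_or_eq_top with h | h
  · rw [h, mem_bot] at hker
    exact Signalizer.involution_ne_one hzo hker
  · have hall : ∀ g, (A : G → ℂ) g = dA := fun g => by
      rw [← hA1, ← CharDegree.mem_kerSubgroup, h]; exact mem_top g
    have h0 := Char.classInner_irr_of_ne hAo
    rw [classInner, Finset.sum_congr rfl fun g _ => by rw [hall g, Char.trivChar_apply, map_one, mul_one],
      Finset.sum_const, Finset.card_univ, nsmul_eq_mul, ← Nat.card_eq_fintype_card,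
      inv_mul_cancel_left₀ (Nat.cast_ne_zero.2 Nat.card_pos.ne')] at h0
    exact hdA0 (by exact_mod_cast h0)

end Ctx

end CfsgLib.InvCent.UnitarySylow
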