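import Cfsg.Agent.Lib.InvCentTwoNilp.Basic
import Cfsg.Agent.Lib.PGroups.Suzuki.Unitary
import Cfsg.Agent.Lib.TwoGroups.Closed
import Cfsg.Prelude.Def_TwoFusion

/-!
# Fusion with a Sylow 2-subgroup of type U₃(4) and 2-nilpotent involution centralisers (S3214)
-/

set_option autoImplicit false
set_option linter.unusedSectionVars false

namespace CfsgLib.InvCent.UnitarySylow

open Subgroup
open CfsgLib.Signalizer (involution_sq involution_inv involution_ne_one orderOf_eq_two_of orderOf_conj)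

/-- The properties used of a Sylow 2-subgroup of `U₃(4)`. -/
structure U34 (T : Type*) [Group T] : Prop where
  card : Nat.card T = 64
  card_center : Nat.card (center T) = 4
  mem_center_iff : ∀ t : T, t ∈ center T ↔ t * t = 1
  sq_mem : ∀ t : T, t * t ∈ center T
  conj_surj : ∀ t : T, t ∉ center T → ∀ c ∈ center T, ∃ h : T, h * t * h⁻¹ = t * c

theorem U34.of_equiv {T T' : Type*} [Group T] [Group T'] (e : T ≃* T') (h : U34 T') : U34 T := by
  have hc : ∀ t : T, t ∈ center T ↔ e t ∈ center T' := fun t => by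
    rw [Subgroup.mem_center_iff, Subgroup.mem_center_iff]
    constructor
    · intro ht g
      obtain ⟨g, rfl⟩ := e.surjective g
      rw [← map_mul, ← map_mul, ht]
    · intro ht g
      exact e.injective (by rw [map_mul, map_mul, ht])
  refine ⟨(Nat.card_congr e.toEquiv).trans h.card, ?_, fun t => ?_, fun t => ?_, fun t ht c hcc => ?_⟩
  · rw [← h.card_center]
    exact Nat.card_congr (e.toEquiv.subtypeEquiv hc)
  · rw [hc, h.mem_center_iff, ← map_mul, map_eq_one_iff _ e.injective]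
  · rw [hc, map_mul]; exact h.sq_mem _
  · obtain ⟨g, hg⟩ := h.conj_surj (e t) (fun h' => ht ((hc t).2 h')) (e c) ((hc c).1 hcc)
    exact ⟨e.symm g, e.injective (by simpa using hg)⟩

open CfsgLib.Classical CfsgLib.Classical.Herm CfsgLib.PGroups.Suzuki in
theorem u34_sylow {F : Type*} [Field F] [Fintype F] (hF : Fintype.card F = 16)
    (P : Sylow 2 (Cfsg.PSU 3 F 4)) : U34 (P : Subgroup (Cfsg.PSU 3 F 4)) := by
  have hF' : Fintype.card F = (2 ^ 2) ^ 2 := by rw [hF]; norm_num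
  haveI := Unitary.charP_two (by norm_num : 1 ≤ 2) hF'
  have h4 : Nonempty (Unitary.Param (powHom hF') ↥(P : Subgroup (Cfsg.PSU 3 F 4))) :=
    Unitary.exists_param (n := 2) (by norm_num) hF' P
  obtain ⟨X⟩ := h4
  have hσ := powHom_isInvol hF'
  have hq := card_fixed_powHom hF'
  have hFc : Nat.card F = (2 ^ 2) ^ 2 := by rw [Nat.card_eq_fintype_card, hF']
  refine ⟨?_, ?_, X.mem_center_iff_sq hσ, X.sq_mem_center hσ, fun t ht c hc => ?_⟩
  · rw [← Nat.card_congr X.el, Unitary.card_pts hσ hq hFc]; norm_num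
  · rw [X.card_center hσ hq]; norm_num
  obtain ⟨x, rfl⟩ := X.el.surjective t
  obtain ⟨y, rfl⟩ := X.el.surjective c
  have hx : x.1.1 ≠ 0 := fun h => ht ((X.mem_center_iff hσ x).2 h)
  have hy : y.1.1 = 0 := (X.mem_center_iff hσ y).1 hc
  have hσx : powHom hF' x.1.1 ≠ 0 := fun h => hx (IsInvol.apply_eq_zero_iff.1 h)
  have hfix : powHom hF' y.1.2 = y.1.2 := by
    have h1 := y.2
    rw [hy, mul_zero] at h1
    linear_combination h1 - Unitary.add_self' y.1.2
  obtain ⟨u, hu⟩ := hσ.exists_trace_eq hfix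
  obtain ⟨w, hw⟩ := Unitary.exists_pt hσ (u * (powHom hF' x.1.1)⁻¹)
  refine ⟨X.el w, ?_⟩
  rw [mul_inv_eq_iff_eq_mul, X.mul' hσ, X.mul' hσ, X.mul' hσ, X.el.apply_eq_iff_eq, Subtype.ext_iff]
  simp only [Unitary.Param.prod, hw, hy, map_mul, map_inv₀, hσ.invol, mul_zero, add_zero,
    Prod.mk.injEq]
  refine ⟨by ring, ?_⟩
  field_simp
  linear_combination hu - Unitary.add_self' u

variable {G : Type*} [Group G] [Finite G]

/-- The standing situation. -/
structure Ctx (S : Sylow 2 G) : Prop where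
  hI : TwoNilpCent G
  shape : U34 (S : Subgroup G)
  not_isolated : ∀ z : G, ¬ Cfsg.IsIsolatedInvolution z

/-- The centre of `S` as a set of elements of `G`. -/
def InZ (S : Sylow 2 G) (x : G) : Prop := x ∈ (S : Subgroup G) ∧ x * x = 1

variable {S : Sylow 2 G}

namespace Ctx

variable (K : Ctx S)
include K

theorem central {c s : G} (hc : InZ S c) (hs : s ∈ (S : Subgroup G)) : s * c = c * s := by
  have h := (K.shape.mem_center_iff ⟨c, hc.1⟩).2 (Subtype.ext hc.2)
  exact congrArg Subtype.val (mem_center_iff.1 h ⟨s, hs⟩)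

theorem inZ_sq {s : G} (hs : s ∈ (S : Subgroup G)) : InZ S (s * s) :=
  ⟨mul_mem hs hs, congrArg Subtype.val ((K.shape.mem_center_iff _).1 (K.shape.sq_mem ⟨s, hs⟩))⟩

theorem inZ_mul {a b : G} (ha : InZ S a) (hb : InZ S b) : InZ S (a * b) :=
  ⟨mul_mem ha.1 hb.1, by
    rw [show a * b * (a * b) = a * (b * a) * b by group, K.central ha hb.1,
      show a * (a * b) * b = (a * a) * (b * b) by group, ha.2, hb.2, one_mul]⟩

omit K in
theorem inZ_one : InZ S (1 : G) := ⟨one_mem _, mul_one 1⟩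

theorem inZ_inv {a : G} (ha : InZ S a) : InZ S a⁻¹ := by
  rwa [inv_eq_of_mul_eq_one_right ha.2]

theorem conj_eq_mul {x : G} (hx : x ∈ (S : Subgroup G)) (hnx : ¬ InZ S x) {c : G} (hc : InZ S c) :
    ∃ h ∈ (S : Subgroup G), h * x * h⁻¹ = x * c := by
  obtain ⟨h, hh⟩ := K.shape.conj_surj ⟨x, hx⟩
    (fun h => hnx ⟨hx, congrArg Subtype.val ((K.shape.mem_center_iff _).1 h)⟩) ⟨c, hc.1⟩
    ((K.shape.mem_center_iff _).2 (Subtype.ext hc.2))
  exact ⟨h, h.2, congrArg Subtype.val hh⟩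

theorem inZ_comm {h x : G} (hh : h ∈ (S : Subgroup G)) (hx : x ∈ (S : Subgroup G)) :
    InZ S (x⁻¹ * (h * x * h⁻¹)) := by
  have e : x⁻¹ * (h * x * h⁻¹) = x⁻¹ * x⁻¹ * ((x * h) * (x * h)) * (h⁻¹ * h⁻¹) := by group
  rw [e]
  exact K.inZ_mul (K.inZ_mul (K.inZ_sq (inv_mem hx)) (K.inZ_sq (mul_mem hx hh))) (K.inZ_sq (inv_mem hh))

/-- The involution attached to a non-identity element of `S`. -/
theorem orderOf_root {x : G} (hx : x ∈ (S : Subgroup G)) (h1 : x ≠ 1) :
    ∃ c, InZ S c ∧ orderOf c = 2 ∧ (∀ g : G, g * x = x * g → g * c = c * g) ∧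
      (x * x = 1 → c = x) ∧ (x * x ≠ 1 → c = x * x) := by
  by_cases h : x * x = 1
  · exact ⟨x, ⟨hx, h⟩, orderOf_eq_two_of h1 h, fun g hg => hg, fun _ => rfl, fun h' => absurd h h'⟩
  · refine ⟨x * x, K.inZ_sq hx, orderOf_eq_two_of h (K.inZ_sq hx).2, fun g hg => ?_,
      fun h' => absurd h' h, fun _ => rfl⟩
    rw [← mul_assoc, hg, mul_assoc, hg, ← mul_assoc]

theorem le_centralizer {c : G} (hc : InZ S c) :
    (S : Subgroup G) ≤ centralizer ({c} : Set G) := fun _ hs => mem_cent.2 (K.central hc hs)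

theorem exists_theta_mul {c g : G} (hc : InZ S c) (ho : orderOf c = 2) (hg : g * c = c * g) :
    ∃ u ∈ theta c, ∃ s ∈ (S : Subgroup G), g = u * s :=
  K.hI.exists_mul ho ⟨S.subtype (K.le_centralizer hc),
    by rw [Sylow.coe_subtype, map_subgroupOf_eq_of_le (K.le_centralizer hc)]⟩ hg

omit K in
theorem theta_disjoint {c x : G} (h1 : x ∈ theta c) (h2 : x ∈ (S : Subgroup G)) : x = 1 := by
  obtain ⟨k, hk⟩ := S.isPGroup' ⟨x, h2⟩
  have hk' : x ^ 2 ^ k = 1 := congrArg Subtype.val hk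
  obtain ⟨j, -, hj⟩ := (Nat.dvd_prime_pow Nat.prime_two).1 (orderOf_dvd_of_pow_eq_one hk')
  have h := odd_orderOf_of_mem (odd_card_theta c) h1
  rcases j with _ | j
  · exact orderOf_eq_one_iff.1 (by rw [hj, pow_zero])
  · rw [hj] at h
    exact absurd h (Nat.not_odd_iff_even.2 ⟨2 ^ j, by ring⟩)

/-- An element of `θ(c)` moving an element of `S` inside `S` fixes it. -/
theorem fix_of_conj_mem {c u x : G} (hc : InZ S c) (hu : u ∈ theta c) (hx : x ∈ (S : Subgroup G))
    (h : u * x * u⁻¹ ∈ (S : Subgroup G)) : u * x * u⁻¹ = x := by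
  have h1 : u * x * u⁻¹ * x⁻¹ ∈ theta c := by
    rw [show u * x * u⁻¹ * x⁻¹ = u * (x * u⁻¹ * x⁻¹) by group]
    exact mul_mem hu
      ((mem_normalizer_iff.1 (le_normalizer_theta c (K.le_centralizer hc hx)) _).1 (inv_mem hu))
  exact mul_inv_eq_one.1 (theta_disjoint h1 (mul_mem h (inv_mem hx)))

/-- An element of `C(c)` moving an element of `S` inside `S` acts on it as an element of `S`. -/
theorem exists_conj_eq {c g x : G} (hc : InZ S c) (ho : orderOf c = 2) (hg : g * c = c * g)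
    (hx : x ∈ (S : Subgroup G)) (h : g * x * g⁻¹ ∈ (S : Subgroup G)) :
    ∃ u ∈ theta c, ∃ s ∈ (S : Subgroup G), g = u * s ∧ u * (s * x * s⁻¹) = s * x * s⁻¹ * u ∧
      g * x * g⁻¹ = s * x * s⁻¹ := by
  obtain ⟨u, hu, s, hs, rfl⟩ := K.exists_theta_mul hc ho hg
  have e : u * s * x * (u * s)⁻¹ = u * (s * x * s⁻¹) * u⁻¹ := by group
  rw [e] at h ⊢
  have hf := K.fix_of_conj_mem hc hu (mul_mem (mul_mem hs hx) (inv_mem hs)) h
  exact ⟨u, hu, s, hs, rfl, mul_inv_eq_iff_eq_mul.1 hf, hf⟩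

/-- The decomposition of the centraliser of an element of `S`. -/
theorem centralizer_decomp {c x g : G} (hc : InZ S c) (ho : orderOf c = 2)
    (hx : x ∈ (S : Subgroup G)) (hcx : ∀ g : G, g * x = x * g → g * c = c * g)
    (hg : g * x = x * g) :
    ∃ u ∈ theta c, ∃ s ∈ (S : Subgroup G), g = u * s ∧ u * x = x * u ∧ s * x = x * s := by
  have e : g * x * g⁻¹ = x := by rw [hg, mul_inv_cancel_right]
  obtain ⟨u, hu, s, hs, rfl, hux, hes⟩ := K.exists_conj_eq hc ho (hcx g hg) hx (by rw [e]; exact hx)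
  rw [e] at hes
  rw [← hes] at hux
  exact ⟨u, hu, s, hs, rfl, hux, mul_inv_eq_iff_eq_mul.1 hes.symm⟩

/-- An element moving the involutions of the centre in a 3-cycle. -/
theorem exists_cycle : ∃ n ∈ normalizer ((S : Subgroup G) : Set G),
    ∀ c, InZ S c → orderOf c = 2 → InZ S (n * c * n⁻¹) ∧ n * c * n⁻¹ ≠ c ∧
      ∀ c', InZ S c' → orderOf c' = 2 → ∃ i < 3, n ^ i * c * (n ^ i)⁻¹ = c' := by
  classical
  have : Fact (Nat.Prime 2) := ⟨Nat.prime_two⟩
  -- the three central involutions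
  have hcard := K.shape.card_center
  have hthree : ∀ a b d : G, InZ S a → InZ S b → InZ S d → a ≠ 1 → b ≠ 1 → a ≠ b → d ≠ 1 →
      d = a ∨ d = b ∨ d = a * b := by
    intro a b d ha hb hd ha1 hb1 hab hd1
    by_contra hcon
    push Not at hcon
    have hmem : ∀ {w : G}, ∀ hw : InZ S w, (⟨w, hw.1⟩ : (S : Subgroup G)) ∈ center (S : Subgroup G) :=
      fun hw => (K.shape.mem_center_iff _).2 (Subtype.ext hw.2)
    have : Fintype (center (S : Subgroup G)) := Fintype.ofFinite _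
    have h6 := Finset.card_le_univ ({⟨_, hmem inZ_one⟩, ⟨_, hmem ha⟩, ⟨_, hmem hb⟩,
      ⟨_, hmem (K.inZ_mul ha hb)⟩, ⟨_, hmem hd⟩} : Finset (center (S : Subgroup G)))
    have hab1 : a * b ≠ 1 := fun e => hab (by
      rw [← mul_right_cancel_iff (a := b), e, hb.2])
    have hab2 : a * b ≠ a := fun e => hb1 (mul_eq_left.1 e)
    have hab3 : a * b ≠ b := fun e => ha1 (mul_eq_right.1 e)
    rw [← Nat.card_eq_fintype_card, hcard] at h6
    simp [Subtype.ext_iff, ha1.symm, hb1.symm, hd1.symm, hab, hab1.symm, hab2.symm, hab3.symm,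
      hcon.1.symm, hcon.2.1.symm, hcon.2.2.symm] at h6
  have hinv : ∀ {m c : G}, m ∈ normalizer ((S : Subgroup G) : Set G) → InZ S c →
      InZ S (m * c * m⁻¹) := by
    intro m c hm hc
    exact ⟨(mem_normalizer_iff.1 hm c).1 hc.1, by
      rw [show m * c * m⁻¹ * (m * c * m⁻¹) = m * (c * c) * m⁻¹ by group, hc.2, mul_one,
        mul_inv_cancel]⟩
  -- no element of the normaliser induces a transposition
  have hnoswap : ∀ {m a b : G}, m ∈ normalizer ((S : Subgroup G) : Set G) → InZ S a →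
      m * a * m⁻¹ = b → m * b * m⁻¹ = a → a = b := by
    intro m a b hm ha h1 h2
    obtain ⟨i, q, hq, hord⟩ := Nat.exists_eq_two_pow_mul_odd (orderOf_pos m).ne'
    have hmq : m ^ q ∈ (S : Subgroup G) := by
      have hp : IsPGroup 2 (zpowers (m ^ q)) := by
        refine IsPGroup.of_card (n := i) ?_
        rw [Nat.card_zpowers, orderOf_pow' _ hq.pos.ne', hord, Nat.gcd_eq_right (dvd_mul_left _ _),
          Nat.mul_div_cancel _ hq.pos]
      have hsup := IsPGroup.to_sup_of_normal_left' S.isPGroup' hp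
        (zpowers_le.2 (pow_mem hm q))
      exact (S.is_maximal' hsup le_sup_left).le (mem_sup_right (mem_zpowers _))
    obtain ⟨j, rfl⟩ := hq
    have hsw : ∀ j : ℕ, m ^ (2 * j + 1) * a * (m ^ (2 * j + 1))⁻¹ = b := by
      intro j
      induction j with
      | zero => simpa using h1
      | succ j ih =>
        calc m ^ (2 * (j + 1) + 1) * a * (m ^ (2 * (j + 1) + 1))⁻¹
            = m * (m * (m ^ (2 * j + 1) * a * (m ^ (2 * j + 1))⁻¹) * m⁻¹) * m⁻¹ := by
              rw [show 2 * (j + 1) + 1 = 2 * j + 1 + 1 + 1 by ring, pow_succ' m (2 * j + 1 + 1),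
                pow_succ' m (2 * j + 1)]
              group
          _ = b := by rw [ih, h2, h1]
    have := hsw j
    rwa [K.central ha hmq, mul_inv_cancel_right] at this
  -- one central involution
  obtain ⟨z, hz, hzo⟩ : ∃ z, InZ S z ∧ orderOf z = 2 := by
    have : Nontrivial (center (S : Subgroup G)) := Finite.one_lt_card_iff_nontrivial.1 (by omega)
    obtain ⟨⟨⟨a, haS⟩, ha⟩, hne⟩ := exists_ne (1 : center (S : Subgroup G))
    have hz : InZ S a := ⟨haS, congrArg Subtype.val ((K.shape.mem_center_iff _).1 ha)⟩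
    exact ⟨a, hz, orderOf_eq_two_of (fun e => hne (Subtype.ext (Subtype.ext e))) hz.2⟩
  -- it is moved by the normaliser
  have hnot := K.not_isolated z
  unfold Cfsg.IsIsolatedInvolution at hnot
  push Not at hnot
  obtain ⟨g, hg1, hg2⟩ := hnot hzo
  set x := g * z * g⁻¹
  have hxo : orderOf x = 2 := (orderOf_conj g z).trans hzo
  obtain ⟨Q, hQ⟩ := ((IsPGroup.of_card (n := 1) (p := 2) (G := zpowers x)
    (by rw [Nat.card_zpowers, hxo, pow_one])).comap_of_injective
      (centralizer ({z} : Set G)).subtype (subtype_injective _)).exists_le_sylow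
  obtain ⟨w, hw⟩ := MulAction.exists_smul_eq (centralizer ({z} : Set G)) Q
    (S.subtype (K.le_centralizer hz))
  have hwx : (w : G) * x * (w : G)⁻¹ ∈ (S : Subgroup G) := by
    have h1 : MulAut.conj w (⟨x, mem_cent.2 hg1.eq.symm⟩ : centralizer ({z} : Set G)) ∈
        ((w • Q : Sylow 2 _) : Subgroup _) := by
      rw [Sylow.coe_subgroup_smul]
      exact smul_mem_pointwise_smul _ (MulAut.conj w) _ (hQ (show x ∈ zpowers x from mem_zpowers x))
    rw [hw] at h1
    exact h1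
  set z' := (w : G) * x * (w : G)⁻¹ with hz'
  have hz'Z : InZ S z' := ⟨hwx, involution_sq ((orderOf_conj _ x).trans hxo)⟩
  have hne : z' ≠ z := fun e => hg2 (by
    have h := mem_cent.1 w.2
    rw [hz', mul_inv_eq_iff_eq_mul, ← h] at e
    exact mul_left_cancel e)
  have hcS : ∀ {c : G}, InZ S c → c ∈ centralizer ((S : Subgroup G) : Set G) := fun hc =>
    mem_centralizer_iff.2 fun s hs => K.central hc hs
  have hz'e : ((w : G) * g)⁻¹⁻¹ * z * ((w : G) * g)⁻¹ = z' := by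
    show _ = (w : G) * (g * z * g⁻¹) * (w : G)⁻¹
    group
  obtain ⟨m, hm, hmz⟩ := Sylow.conj_eq_normalizer_conj_of_mem_centralizer S z ((w : G) * g)⁻¹
    (hcS hz) (by rw [hz'e]; exact hcS hz'Z)
  rw [hz'e] at hmz
  set n := m⁻¹ with hn
  have hnN : n ∈ normalizer ((S : Subgroup G) : Set G) := inv_mem hm
  have h1 : n * z * n⁻¹ = z' := by rw [hmz, hn]; group
  have hinj : ∀ {a b : G}, n * a * n⁻¹ = n * b * n⁻¹ → a = b := fun h =>
    (MulAut.conj n).injective h
  have hz1 : z ≠ 1 := involution_ne_one hzo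
  have hz'1 : z' ≠ 1 := involution_ne_one ((orderOf_conj _ x).trans hxo)
  set z'' := z * z' with hz''
  have hz''Z : InZ S z'' := K.inZ_mul hz hz'Z
  have hne1 : n * z' * n⁻¹ ≠ 1 := fun e => hz'1 (hinj (e.trans (by group)))
  have h2 : n * z' * n⁻¹ = z'' := by
    rcases hthree z z' _ hz hz'Z (hinv hnN hz'Z) hz1 hz'1 hne.symm hne1 with e | e | e
    · exact absurd (hnoswap hnN hz h1 e) hne.symm
    · exact absurd (hinj (e.trans h1.symm)) hne
    · exact e
  have h3 : n * z'' * n⁻¹ = z := by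
    rw [hz'', show n * (z * z') * n⁻¹ = n * z * n⁻¹ * (n * z' * n⁻¹) by group, h1, h2, hz'',
      K.central hz'Z hz.1, ← mul_assoc, hz'Z.2, one_mul]
  have hn'' : z'' ≠ 1 := by rw [← h2]; exact hne1
  have d1 : z'' ≠ z := fun e => hz'1 (mul_eq_left.1 e)
  have d2 : z'' ≠ z' := fun e => hz1 (mul_eq_right.1 e)
  refine ⟨n, hnN, fun c hc ho => ⟨hinv hnN hc, ?_, fun c' hc' ho' => ?_⟩⟩
  · rcases hthree z z' c hz hz'Z hc hz1 hz'1 hne.symm (involution_ne_one ho) with rfl | rfl | rfl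
    · rw [h1]; exact hne
    · rw [h2]; exact d2
    · rw [h3]; exact d1.symm
  · have e2 : ∀ c : G, n ^ 2 * c * (n ^ 2)⁻¹ = n * (n * c * n⁻¹) * n⁻¹ := fun c => by
      rw [pow_two]; group
    rcases hthree z z' c hz hz'Z hc hz1 hz'1 hne.symm (involution_ne_one ho) with e | e | e <;>
      rcases hthree z z' c' hz hz'Z hc' hz1 hz'1 hne.symm (involution_ne_one ho') with e' | e' | e' <;>
      rw [e, e']
    · exact ⟨0, by norm_num, by simp⟩
    · exact ⟨1, by norm_num, by rw [pow_one, h1]⟩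
    · exact ⟨2, by norm_num, by rw [e2, h1, h2]⟩
    · exact ⟨2, by norm_num, by rw [e2, h2, h3]⟩
    · exact ⟨0, by norm_num, by simp⟩
    · exact ⟨1, by norm_num, by rw [pow_one, h2]⟩
    · exact ⟨1, by norm_num, by rw [pow_one, h3]⟩
    · exact ⟨2, by norm_num, by rw [e2, h3, h1]⟩
    · exact ⟨0, by norm_num, by simp⟩

end Ctx

/-- A fixed element inducing a 3-cycle on the central involutions of `S`. -/
structure Cycle (S : Sylow 2 G) (n : G) : Prop where
  norm : n ∈ normalizer ((S : Subgroup G) : Set G)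
  moves : ∀ c, InZ S c → orderOf c = 2 → n * c * n⁻¹ ≠ c
  trans : ∀ c c', InZ S c → orderOf c = 2 → InZ S c' → orderOf c' = 2 →
    ∃ i < 3, n ^ i * c * (n ^ i)⁻¹ = c'

namespace Ctx

variable (K : Ctx S)
include K

theorem exists_Cycle : ∃ n, Cycle S n := by
  obtain ⟨n, hn, h⟩ := K.exists_cycle
  exact ⟨n, hn, fun c hc ho => (h c hc ho).2.1, fun c c' hc ho hc' ho' => (h c hc ho).2.2 c' hc' ho'⟩

variable {n : G} (C : Cycle S n)
include C

omit K in
theorem conj_mem {x : G} (hx : x ∈ (S : Subgroup G)) (i : ℕ) :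
    n ^ i * x * (n ^ i)⁻¹ ∈ (S : Subgroup G) :=
  (mem_normalizer_iff.1 (pow_mem C.norm i) x).1 hx

omit K in
theorem conj_inZ {x : G} (hx : InZ S x) (i : ℕ) : InZ S (n ^ i * x * (n ^ i)⁻¹) :=
  ⟨conj_mem C hx.1 i, by
    rw [show n ^ i * x * (n ^ i)⁻¹ * (n ^ i * x * (n ^ i)⁻¹) = n ^ i * (x * x) * (n ^ i)⁻¹ by group,
      hx.2, mul_one, mul_inv_cancel]⟩

theorem pow_three {c : G} (hc : InZ S c) (ho : orderOf c = 2) : n ^ 3 * c * (n ^ 3)⁻¹ = c := by
  have hmv : ∀ i, n ^ (i + 1) * c * (n ^ (i + 1))⁻¹ ≠ n ^ i * c * (n ^ i)⁻¹ := by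
    intro i
    rw [show n ^ (i + 1) * c * (n ^ (i + 1))⁻¹ = n * (n ^ i * c * (n ^ i)⁻¹) * n⁻¹ by
      rw [pow_succ']; group]
    exact C.moves _ (conj_inZ C hc i) ((orderOf_conj _ c).trans ho)
  have hinj : ∀ {a b : G}, n * a * n⁻¹ = n * b * n⁻¹ → a = b := fun h =>
    (MulAut.conj n).injective h
  have hs : ∀ i, n ^ (i + 1) * c * (n ^ (i + 1))⁻¹ = n * (n ^ i * c * (n ^ i)⁻¹) * n⁻¹ := fun i => by
    rw [pow_succ']; group
  obtain ⟨i, hi, he⟩ := C.trans c _ hc ho (conj_inZ C hc 3) ((orderOf_conj _ c).trans ho)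
  interval_cases i
  · simpa using he.symm
  · rw [hs 2, hs 0] at he
    have h20 := hinj he
    simp only [pow_zero, one_mul, inv_one, mul_one] at h20
    -- the square would fix `c`, so the action would not be transitive
    exfalso
    have h1 : InZ S (n * c * n⁻¹) := by simpa using conj_inZ C hc 1
    have hne := C.moves c hc ho
    have hd : InZ S (c * (n * c * n⁻¹)) := K.inZ_mul hc h1
    have hd1 : c * (n * c * n⁻¹) ≠ 1 := fun e => hne
      (mul_left_cancel (e.trans hc.2.symm))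
    obtain ⟨j, hj, hje⟩ := C.trans c _ hc ho hd (orderOf_eq_two_of hd1 hd.2)
    have hnc1 : n * c * n⁻¹ ≠ 1 := involution_ne_one ((orderOf_conj n c).trans ho)
    interval_cases j
    · simp only [pow_zero, one_mul, inv_one, mul_one] at hje
      exact hnc1 (mul_eq_left.1 hje.symm)
    · rw [pow_one] at hje
      exact involution_ne_one ho (mul_eq_right.1 hje.symm)
    · rw [← h20] at hje
      exact hnc1 (mul_eq_left.1 hje.symm)
  · exact absurd he.symm (hmv 2)

omit K in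
theorem pow_succ_conj (i : ℕ) (x : G) :
    n ^ (i + 1) * x * (n ^ (i + 1))⁻¹ = n * (n ^ i * x * (n ^ i)⁻¹) * n⁻¹ := by
  rw [pow_succ']; group

theorem pow_injective_on {c : G} (hc : InZ S c) (ho : orderOf c = 2) {i j : ℕ} (hi : i < 3) (hj : j < 3)
    (he : n ^ i * c * (n ^ i)⁻¹ = n ^ j * c * (n ^ j)⁻¹) : i = j := by
  have hmv : ∀ k, n ^ (k + 1) * c * (n ^ (k + 1))⁻¹ ≠ n ^ k * c * (n ^ k)⁻¹ := by
    intro k
    rw [pow_succ_conj C]
    exact C.moves _ (conj_inZ C hc k) ((orderOf_conj _ c).trans ho)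
  have h20 : n ^ 2 * c * (n ^ 2)⁻¹ ≠ n ^ 0 * c * (n ^ 0)⁻¹ := fun e => hmv 2 (by
    rw [K.pow_three C hc ho, e]; simp)
  interval_cases i <;> interval_cases j <;>
    first
    | rfl
    | exact absurd he (hmv 0)
    | exact absurd he.symm (hmv 0)
    | exact absurd he (hmv 1)
    | exact absurd he.symm (hmv 1)
    | exact absurd he h20
    | exact absurd he.symm h20

/-- A coset of the centre fixed by `n ^ i` has a fixed square. -/
theorem conj_sq_of_coset {x : G} (hx : x ∈ (S : Subgroup G)) {i : ℕ}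
    (h : InZ S (x⁻¹ * (n ^ i * x * (n ^ i)⁻¹))) :
    n ^ i * (x * x) * (n ^ i)⁻¹ = x * x := by
  set c := x⁻¹ * (n ^ i * x * (n ^ i)⁻¹) with hc
  have e : n ^ i * x * (n ^ i)⁻¹ = x * c := by rw [hc]; group
  rw [show n ^ i * (x * x) * (n ^ i)⁻¹ = n ^ i * x * (n ^ i)⁻¹ * (n ^ i * x * (n ^ i)⁻¹) by group, e,
    show x * c * (x * c) = x * (c * x) * c by group, ← K.central h hx,
    show x * (x * c) * c = x * x * (c * c) by group, h.2, mul_one]

/-- `n` acts on `S / Z` without fixed points. -/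
theorem inZ_of_coset {x : G} (hx : x ∈ (S : Subgroup G))
    (h : InZ S (x⁻¹ * (n * x * n⁻¹))) : InZ S x := by
  by_contra hnx
  have h1 : x * x ≠ 1 := fun e => hnx ⟨hx, e⟩
  have := K.conj_sq_of_coset C hx (i := 1) (by rw [pow_one]; exact h)
  rw [pow_one] at this
  exact C.moves _ (K.inZ_sq hx) (orderOf_eq_two_of h1 (K.inZ_sq hx).2) this

/-- `n ^ 3` acts trivially on `S / Z`. -/
theorem pow_three_coset {x : G} (hx : x ∈ (S : Subgroup G)) :
    InZ S (x⁻¹ * (n ^ 3 * x * (n ^ 3)⁻¹)) := by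
  by_cases hxz : InZ S x
  · exact K.inZ_mul (K.inZ_inv hxz) (conj_inZ C hxz 3)
  set c := x * x with hc
  have hcZ : InZ S c := K.inZ_sq hx
  have ho : orderOf c = 2 := orderOf_eq_two_of (fun e => hxz ⟨hx, e⟩) hcZ.2
  obtain ⟨u, -, t, ht, -, -, he⟩ := K.exists_conj_eq hcZ ho
    (g := n ^ 3) (mul_inv_eq_iff_eq_mul.1 (K.pow_three C hcZ ho)) hx (conj_mem C hx 3)
  rw [he]
  exact K.inZ_comm ht hx

/-- Fusion in `S`. -/
theorem exists_factor {c x g : G} (hc : InZ S c) (ho : orderOf c = 2) (hx : x ∈ (S : Subgroup G))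
    (hroot : (x * x = 1 → c = x) ∧ (x * x ≠ 1 → c = x * x))
    (hg : g * x * g⁻¹ ∈ (S : Subgroup G)) :
    ∃ i < 3, ∃ s ∈ (S : Subgroup G), ∃ u ∈ theta c, u * x = x * u ∧ g = n ^ i * s * u := by
  have hgc : InZ S (g * c * g⁻¹) := by
    by_cases hxx : x * x = 1
    · rw [hroot.1 hxx]
      exact ⟨hg, by rw [show g * x * g⁻¹ * (g * x * g⁻¹) = g * (x * x) * g⁻¹ by group, hxx, mul_one,
        mul_inv_cancel]⟩
    · rw [hroot.2 hxx, show g * (x * x) * g⁻¹ = g * x * g⁻¹ * (g * x * g⁻¹) by group]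
      exact K.inZ_sq hg
  obtain ⟨i, hi, hie⟩ := C.trans c _ hc ho hgc ((orderOf_conj g c).trans ho)
  set h := (n ^ i)⁻¹ * g with hh
  have hhc : h * c = c * h := mul_inv_eq_iff_eq_mul.1 (by
    rw [hh, show (n ^ i)⁻¹ * g * c * ((n ^ i)⁻¹ * g)⁻¹ = (n ^ i)⁻¹ * (g * c * g⁻¹) * n ^ i by group,
      ← hie]
    group)
  have hhx : h * x * h⁻¹ ∈ (S : Subgroup G) := by
    rw [hh, show (n ^ i)⁻¹ * g * x * ((n ^ i)⁻¹ * g)⁻¹ = (n ^ i)⁻¹ * (g * x * g⁻¹) * (n ^ i)⁻¹⁻¹ by
      group]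
    exact (mem_normalizer_iff.1 (inv_mem (pow_mem C.norm i)) _).1 hg
  obtain ⟨u, hu, t, ht, hut, hcomm, -⟩ := K.exists_conj_eq hc ho hhc hx hhx
  refine ⟨i, hi, t, ht, t⁻¹ * u * t, ?_, ?_, ?_⟩
  · simpa using (mem_normalizer_iff.1 (le_normalizer_theta c (K.le_centralizer hc (inv_mem ht))) u).1 hu
  · calc t⁻¹ * u * t * x = t⁻¹ * (u * (t * x * t⁻¹)) * t := by group
      _ = t⁻¹ * (t * x * t⁻¹ * u) * t := by rw [hcomm]
      _ = x * (t⁻¹ * u * t) := by group
  · rw [show g = n ^ i * h by rw [hh]; group, hut]; group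

theorem factor_unique {c : G} (hc : InZ S c) (ho : orderOf c = 2) {i j : ℕ} (hi : i < 3) (hj : j < 3)
    {s s' u u' : G} (hs : s ∈ (S : Subgroup G)) (hs' : s' ∈ (S : Subgroup G)) (hu : u ∈ theta c)
    (hu' : u' ∈ theta c) (he : n ^ i * s * u = n ^ j * s' * u') : i = j ∧ s = s' ∧ u = u' := by
  have hfix : ∀ {k : ℕ} {t v : G}, t ∈ (S : Subgroup G) → v ∈ theta c →
      n ^ k * t * v * c * (n ^ k * t * v)⁻¹ = n ^ k * c * (n ^ k)⁻¹ := by
    intro k t v ht hv
    have e1 : t * v * c * (t * v)⁻¹ = c := by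
      rw [show t * v * c * (t * v)⁻¹ = t * (v * c * v⁻¹) * t⁻¹ by group,
        mem_cent.1 (theta_le c hv), mul_inv_cancel_right, K.central hc ht, mul_inv_cancel_right]
    calc n ^ k * t * v * c * (n ^ k * t * v)⁻¹ = n ^ k * (t * v * c * (t * v)⁻¹) * (n ^ k)⁻¹ := by group
      _ = _ := by rw [e1]
  have hij : i = j := K.pow_injective_on C hc ho hi hj (by rw [← hfix hs hu, he, hfix hs' hu'])
  subst hij
  have e : s * u = s' * u' := by rwa [mul_assoc, mul_assoc, mul_right_inj] at he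
  have e' : s'⁻¹ * s = u' * u⁻¹ := by
    rw [eq_mul_inv_iff_mul_eq, mul_assoc, e, inv_mul_cancel_left]
  have h1 : s'⁻¹ * s = 1 :=
    theta_disjoint (by rw [e']; exact mul_mem hu' (inv_mem hu)) (mul_mem (inv_mem hs') hs)
  have hss : s = s' := (inv_mul_eq_one.1 h1).symm
  exact ⟨rfl, hss, by rwa [hss, mul_right_inj] at e⟩

omit n C in
/-- No element of `S` outside the centre is inverted by an involution. -/
theorem not_inverted {y a : G} (hy : y ∈ (S : Subgroup G)) (hny : ¬ InZ S y) (ha : a * a = 1)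
    (h : a * y * a⁻¹ = y⁻¹) : False := by
  have hy1 : y * y ≠ 1 := fun e => hny ⟨hy, e⟩
  have hc := K.inZ_sq hy
  have ho := orderOf_eq_two_of hy1 hc.2
  have hac : a * (y * y) = y * y * a := mul_inv_eq_iff_eq_mul.1 (by
    rw [show a * (y * y) * a⁻¹ = a * y * a⁻¹ * (a * y * a⁻¹) by group, h, ← mul_inv_rev,
      inv_eq_of_mul_eq_one_right hc.2])
  obtain ⟨u, hu, t, ht, hut, -, he⟩ := K.exists_conj_eq hc ho hac hy (by rw [h]; exact inv_mem hy)
  have ht2 : t * t = 1 := by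
    have e : t * t = (u * (t * u * t⁻¹))⁻¹ := by
      rw [eq_inv_iff_mul_eq_one]
      have h' : u * (t * u * t⁻¹) * (t * t) = 1 := by
        rw [show u * (t * u * t⁻¹) * (t * t) = (u * t) * (u * t) by group, ← hut, ha]
      rw [eq_inv_of_mul_eq_one_right h', inv_mul_cancel]
    exact theta_disjoint (c := y * y) (by
      rw [e]
      exact inv_mem (mul_mem hu ((mem_normalizer_iff.1
        (le_normalizer_theta _ (K.le_centralizer hc ht)) u).1 hu))) (mul_mem ht ht)
  have hty : t * y * t⁻¹ = y := by rw [← K.central ⟨ht, ht2⟩ hy, mul_inv_cancel_right]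
  rw [hty, h] at he
  exact hy1 (by nth_rewrite 1 [← he]; exact inv_mul_cancel y)

omit n C in
/-- An abelian subgroup of order 16. -/
theorem exists_abelian : ∃ A : Subgroup G, A ≤ (S : Subgroup G) ∧ Nat.card A = 16 ∧
    (∀ x, InZ S x → x ∈ A) ∧ ∀ x ∈ A, ∀ y ∈ A, x * y = y * x := by
  classical
  obtain ⟨a, ha⟩ : ∃ a : (S : Subgroup G), a ∉ center (S : Subgroup G) := by
    by_contra h
    push Not at h
    have e : center (S : Subgroup G) = ⊤ := eq_top_iff.2 fun x _ => h x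
    have := K.shape.card_center
    rw [e, card_top, K.shape.card] at this
    omega
  have hmem : ∀ h : (S : Subgroup G), a⁻¹ * (h * a * h⁻¹) ∈ center (S : Subgroup G) := fun h =>
    (K.shape.mem_center_iff _).2 (Subtype.ext (K.inZ_comm h.2 a.2).2)
  let φ : (S : Subgroup G) →* center (S : Subgroup G) :=
    { toFun := fun h => ⟨a⁻¹ * (h * a * h⁻¹), hmem h⟩
      map_one' := Subtype.ext (by simp)
      map_mul' := fun g h => Subtype.ext (by
        show a⁻¹ * (g * h * a * (g * h)⁻¹) = a⁻¹ * (g * a * g⁻¹) * (a⁻¹ * (h * a * h⁻¹))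
        calc a⁻¹ * (g * h * a * (g * h)⁻¹) = a⁻¹ * (g * a * (a⁻¹ * (h * a * h⁻¹)) * g⁻¹) := by group
          _ = a⁻¹ * (g * a * (g⁻¹ * (a⁻¹ * (h * a * h⁻¹)))) := by
            rw [Subgroup.mem_center_iff.1 (hmem h) g⁻¹]; group
          _ = _ := by group) }
  have hsurj : Function.Surjective φ := fun c => by
    obtain ⟨h, hh⟩ := K.shape.conj_surj a ha c c.2
    exact ⟨h, Subtype.ext (by show a⁻¹ * (h * a * h⁻¹) = _; rw [hh, inv_mul_cancel_left])⟩
  have hker : Nat.card φ.ker = 16 := by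
    have h := φ.ker.card_mul_index
    rw [index_ker, MonoidHom.range_eq_top.2 hsurj, card_top, K.shape.card_center, K.shape.card] at h
    omega
  have hmemk : ∀ x, x ∈ φ.ker ↔ x * a = a * x := fun x => by
    rw [MonoidHom.mem_ker, Subtype.ext_iff]
    show a⁻¹ * (x * a * x⁻¹) = 1 ↔ _
    rw [inv_mul_eq_one, eq_comm, mul_inv_eq_iff_eq_mul]
  have hcomm : ∀ x ∈ φ.ker, ∀ y ∈ φ.ker, x * y = y * x := by
    set D := center (S : Subgroup G) ⊔ zpowers a with hD
    have hDk : D ≤ φ.ker := sup_le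
      (fun x hx => (hmemk x).2 ((Subgroup.mem_center_iff.1 hx a).symm))
      (zpowers_le.2 ((hmemk a).2 rfl))
    have hDc : ∀ d ∈ D, ∀ x ∈ φ.ker, x * d = d * x := by
      intro d hd x hx
      have hle : D ≤ centralizer ({x} : Set (S : Subgroup G)) := sup_le
        (fun y hy => mem_cent.2 (Subgroup.mem_center_iff.1 hy x).symm)
        (zpowers_le.2 (mem_cent.2 ((hmemk x).1 hx).symm))
      exact (mem_cent.1 (hle hd)).symm
    have hidx : D.relIndex φ.ker ≤ 2 := by
      have h8 : 8 ≤ Nat.card D := by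
        have hlt : center (S : Subgroup G) < D := lt_of_le_of_ne le_sup_left fun e =>
          ha (e ▸ mem_sup_right (mem_zpowers a))
        have hdvd := card_dvd_of_le hlt.le
        have hlt' : Nat.card (center (S : Subgroup G)) < Nat.card D := lt_of_le_of_ne
          (Nat.le_of_dvd Nat.card_pos hdvd) fun e => hlt.ne (eq_of_le_of_card_ge hlt.le e.ge)
        rw [K.shape.card_center] at hdvd hlt'
        omega
      have h := (D.subgroupOf φ.ker).card_mul_index
      rw [Nat.card_congr (subgroupOfEquivOfLe hDk).toEquiv, hker] at h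
      change _ * D.relIndex φ.ker = _ at h
      nlinarith
    intro x hx y hy
    by_cases hxD : x ∈ D
    · exact (hDc x hxD y hy).symm
    by_cases hyD : y ∈ D
    · exact hDc y hyD x hx
    have h2 : D.relIndex φ.ker = 2 := le_antisymm hidx (by
      by_contra hlt
      have h0 : D.relIndex φ.ker ≠ 0 := index_ne_zero_of_finite
      exact hxD (relIndex_eq_one.1 (by omega) hx))
    have hm : x⁻¹ * y ∈ D := by
      have := (Subgroup.mul_mem_iff_of_index_two (H := D.subgroupOf φ.ker) h2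
        (a := ⟨x⁻¹, inv_mem hx⟩) (b := ⟨y, hy⟩))
      simp only [mem_subgroupOf, coe_mul] at this
      exact this.2 ⟨fun h => absurd (by simpa using inv_mem h) hxD, fun h => absurd h hyD⟩
    have := hDc _ hm x hx
    calc x * y = x * (x * (x⁻¹ * y)) := by group
      _ = x * ((x⁻¹ * y) * x) := by rw [this]
      _ = y * x := by group
  refine ⟨φ.ker.map (S : Subgroup G).subtype, map_subtype_le _, ?_, fun x hx => ?_, ?_⟩
  · rw [card_map_of_injective (subtype_injective _), hker]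
  · exact ⟨⟨x, hx.1⟩, (hmemk _).2 (Subtype.ext (K.central hx a.2).symm), rfl⟩
  · rintro _ ⟨x, hx, rfl⟩ _ ⟨y, hy, rfl⟩
    rw [← map_mul, ← map_mul, hcomm x hx y hy]

end Ctx

end CfsgLib.InvCent.UnitarySylow
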